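import Mathlib
import Cfsg.Agent.H163.E6.Defs
import Cfsg.Agent.H952.F4.Chg
import Cfsg.Agent.H952.F4.Jord
import Cfsg.Agent.H65.E6Inv

/-!
# S5927: change of fields for the simply connected group of type `E₆` (helper65)

`emb f : Zgrp F →* Zgrp E` for `f : F →+* E`; compatibility with `V`, `V'`, `L`, `ad`, eigenspaces, traces, the cubic form,
`sh`, `cr`, `tf`; functoriality; `exists_of_map` (descent); extension of subspaces `ext f W`.
-/

set_option autoImplicit false

namespace Cfsg.Agent.H65.E6Emb

open Cfsg Cfsg.Lie Module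
open Cfsg.Agent.ChevalleyStructure.E6Min.Tables Cfsg.Agent.ChevalleyStructure.E6Min.Basic
  Cfsg.Agent.ChevalleyStructure.E6Min.Adjoint Cfsg.Agent.ChevalleyStructure.E6Min.Torus
open Cfsg.Agent.H163.E6 Cfsg.Agent.H184.GraphE6
open Cfsg.Agent.H952.F4 (ev es matRep sh cr tf MaxAlt ofM tr1)
open scoped Matrix

universe u v w

section gen

variable {F : Type u} {E : Type v} [Field F] [Field E] (f : F →+* E)

theorem zM_map (r : ℕ) (t : F) : (zM r t).map f = zM r (f t) := by
  ext x y
  simp only [zM_def, Matrix.map_apply, Matrix.add_apply, Matrix.smul_apply, Nm_apply, Matrix.one_apply, map_add,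
    smul_eq_mul, map_mul, apply_ite f, map_one, map_zero, map_intCast]

theorem map_mem {g : GL I27 F} (hg : g ∈ Zgrp F) : Matrix.GeneralLinearGroup.map f g ∈ Zgrp E := by
  have h : Zgrp F ≤ (Zgrp E).comap (Matrix.GeneralLinearGroup.map f) := by
    unfold Zgrp
    rw [Subgroup.closure_le]
    rintro x ⟨r, t, hr, hx⟩
    refine Subgroup.subset_closure ⟨r, f t, hr, ?_⟩
    show ((x : GL I27 F) : Matrix I27 I27 F).map f = _
    rw [hx, zM_map]
  exact h hg

/-- the map of simply connected groups given by a homomorphism of fields -/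
noncomputable def emb : ↥(Zgrp F) →* ↥(Zgrp E) where
  toFun g := ⟨Matrix.GeneralLinearGroup.map f g, map_mem f g.2⟩
  map_one' := Subtype.ext (map_one _)
  map_mul' _ _ := Subtype.ext (map_mul _ _ _)

theorem coe_emb' (g : ↥(Zgrp F)) : (emb f g : GL I27 E) = Matrix.GeneralLinearGroup.map f (g : GL I27 F) := rfl

theorem coe_emb (g : ↥(Zgrp F)) :
    ((emb f g : GL I27 E) : Matrix I27 I27 E) = ((g : GL I27 F) : Matrix I27 I27 F).map f := rfl

theorem emb_injective : Function.Injective (emb f) := by
  intro g h hgh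
  have h1 : ((g : GL I27 F) : Matrix I27 I27 F).map f = ((h : GL I27 F) : Matrix I27 I27 F).map f := by
    rw [← coe_emb, ← coe_emb, hgh]
  exact Subtype.ext (Units.ext (Matrix.map_injective f.injective h1))

theorem emb_emb {K : Type w} [Field K] (f' : E →+* K) (g : ↥(Zgrp F)) : emb f' (emb f g) = emb (f'.comp f) g := by
  apply Subtype.ext
  apply Units.ext
  rw [coe_emb, coe_emb, coe_emb, Matrix.map_map]
  rfl

theorem emb_id (g : ↥(Zgrp F)) : emb (RingHom.id F) g = g := by
  apply Subtype.ext
  apply Units.ext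
  rw [coe_emb]
  exact Matrix.map_id _

theorem map_mulVec {n : Type*} [Fintype n] (A : Matrix n n F) (x : n → F) :
    (A.map f).mulVec (fun i => f (x i)) = fun i => f (A.mulVec x i) := by
  funext i
  simp only [Matrix.mulVec, dotProduct, Matrix.map_apply, map_sum, map_mul]

theorem V_emb (g : ↥(Zgrp F)) (x : I27 → F) : V E (emb f g) (fun i => f (x i)) = fun i => f (V F g x i) := by
  rw [V_apply, V_apply, coe_emb, map_mulVec]

theorem gU_map (g : GL I27 F) :
    gU (Matrix.GeneralLinearGroup.map f g) = Matrix.GeneralLinearGroup.map f (gU g) := by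
  have hP : Matrix.GeneralLinearGroup.map f (PU F) = PU E := by
    apply Units.ext
    show (PM F).map f = PM E
    ext x y
    simp only [Matrix.map_apply, PM_apply, apply_ite f, map_one, map_zero]
  have hd : Matrix.GeneralLinearGroup.map f (dual g) = dual (Matrix.GeneralLinearGroup.map f g) := by
    apply Units.ext
    rw [coe_dual, ← map_inv]
    show (((g⁻¹ : GL I27 F) : Matrix I27 I27 F)ᵀ).map f = (((g⁻¹ : GL I27 F) : Matrix I27 I27 F).map f)ᵀ
    rw [Matrix.transpose_map]
  unfold gU
  rw [map_mul, map_mul, hP, hd]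

theorem V'_emb (g : ↥(Zgrp F)) (x : I27 → F) : V' E (emb f g) (fun i => f (x i)) = fun i => f (V' F g x i) := by
  rw [V'_apply, V'_apply, coe_emb', gU_map]
  exact map_mulVec f _ x

theorem comb_map (c : chevE6.Idx → F) : (comb c).map f = comb fun i => f (c i) := by
  ext x y
  have hH : ∀ (i : ℕ), f (Hm F i x y) = Hm E i x y := by
    intro i
    rw [Hm_apply, Hm_apply]
    simp only [apply_ite f, map_intCast, map_zero]
  have hN : ∀ (i : ℕ), f (Nm F i x y) = Nm E i x y := by
    intro i
    rw [Nm_apply, Nm_apply]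
    simp only [apply_ite f, map_intCast, map_zero]
  rw [comb_split, comb_split, Matrix.map_apply, Matrix.add_apply, Matrix.add_apply, Matrix.sum_apply, Matrix.sum_apply,
    Matrix.sum_apply, Matrix.sum_apply, map_add, map_sum, map_sum]
  congr 1
  · refine Finset.sum_congr rfl fun i _ => ?_
    rw [Matrix.smul_apply, Matrix.smul_apply, smul_eq_mul, smul_eq_mul, map_mul, hH]
  · refine Finset.sum_congr rfl fun i _ => ?_
    rw [Matrix.smul_apply, Matrix.smul_apply, smul_eq_mul, smul_eq_mul, map_mul, hN]

theorem B_map (c : chevE6.Idx) : (B F c).map f = B E c := by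
  rcases c with i | r
  · ext x y
    rw [B_inl, B_inl, Matrix.map_apply, Hm_apply, Hm_apply]
    simp only [apply_ite f, map_intCast, map_zero]
  · ext x y
    rw [B_inr, B_inr, Matrix.map_apply, Nm_apply, Nm_apply]
    simp only [apply_ite f, map_intCast, map_zero]

theorem ad_emb (g : ↥(Zgrp F)) :
    (((ad E (emb f g) : ↥(chevE6.group E)) : GL chevE6.Idx E) : Matrix chevE6.Idx chevE6.Idx E) =
      (((ad F g : ↥(chevE6.group F)) : GL chevE6.Idx F) : Matrix chevE6.Idx chevE6.Idx F).map f := by
  refine P_unique (g := (emb f g : GL I27 E)) (ad_P (emb f g)) ?_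
  intro col
  have h := congrArg (fun M : Matrix I27 I27 F => M.map f) (ad_P g col)
  simp only [Matrix.map_mul] at h
  rw [B_map, comb_map] at h
  exact h

theorem L_apply (g : ↥(Zgrp F)) (v : chevE6.Idx → F) : L F g v =
    (((ad F g : ↥(chevE6.group F)) : GL chevE6.Idx F) : Matrix chevE6.Idx chevE6.Idx F).mulVec v :=
  Cfsg.Agent.H65.E6Inv.LK_apply (ad F g) v

theorem L_emb (g : ↥(Zgrp F)) (x : chevE6.Idx → F) : L E (emb f g) (fun i => f (x i)) = fun i => f (L F g x i) := by
  rw [L_apply, L_apply, ad_emb, map_mulVec]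

theorem eq_one_iff {K : Type*} [Field K] (h : ↥(chevE6.group K)) : h = 1 ↔
    ((h : GL chevE6.Idx K) : Matrix chevE6.Idx chevE6.Idx K) = 1 := by
  constructor
  · rintro rfl; rfl
  · intro h1
    exact Subtype.ext (Units.ext h1)

theorem ad_emb_eq_one_iff (g : ↥(Zgrp F)) : ad E (emb f g) = 1 ↔ ad F g = 1 := by
  rw [eq_one_iff, eq_one_iff, ad_emb]
  constructor
  · intro h
    refine Matrix.map_injective f.injective (h.trans ?_)
    exact (Matrix.map_one f (map_zero f) (map_one f)).symm
  · intro h
    rw [h]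
    exact Matrix.map_one f (map_zero f) (map_one f)

/-! ### eigenspaces and traces -/

theorem V_eq (g : ↥(Zgrp F)) : V F g = Matrix.toLin' ((g : GL I27 F) : Matrix I27 I27 F) := rfl

theorem V'_eq (g : ↥(Zgrp F)) : V' F g = Matrix.toLin' ((gU (g : GL I27 F) : GL I27 F) : Matrix I27 I27 F) := rfl

theorem L_eq' (g : ↥(Zgrp F)) : L F g = Matrix.toLin' (((ad F g : ↥(chevE6.group F)) : GL chevE6.Idx F) :
    Matrix chevE6.Idx chevE6.Idx F) := by
  refine LinearMap.ext fun v => ?_
  rw [L_apply, Matrix.toLin'_apply]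

theorem V'_emb_eq (g : ↥(Zgrp F)) :
    V' E (emb f g) = Matrix.toLin' (((gU (g : GL I27 F) : GL I27 F) : Matrix I27 I27 F).map f) := by
  rw [V'_eq, coe_emb', gU_map]
  rfl

theorem ev_V (g : ↥(Zgrp F)) (μ : F) : ev (V E (emb f g)) (f μ) = ev (V F g) μ := by
  rw [V_eq, V_eq, coe_emb]
  exact H815.F4Chg.ev_map f _ μ

theorem ev_V' (g : ↥(Zgrp F)) (μ : F) : ev (V' E (emb f g)) (f μ) = ev (V' F g) μ := by
  rw [V'_emb_eq, V'_eq]
  exact H815.F4Chg.ev_map f _ μ

theorem ev_L (g : ↥(Zgrp F)) (μ : F) : ev (L E (emb f g)) (f μ) = ev (L F g) μ := by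
  rw [L_eq', L_eq', ad_emb]
  exact H815.F4Chg.ev_map f _ μ

theorem ev_V_one (g : ↥(Zgrp F)) : ev (V E (emb f g)) 1 = ev (V F g) 1 := by
  rw [← ev_V f g 1, map_one]

theorem ev_V'_one (g : ↥(Zgrp F)) : ev (V' E (emb f g)) 1 = ev (V' F g) 1 := by
  rw [← ev_V' f g 1, map_one]

theorem ev_L_one (g : ↥(Zgrp F)) : ev (L E (emb f g)) 1 = ev (L F g) 1 := by
  rw [← ev_L f g 1, map_one]

theorem trace_V (g : ↥(Zgrp F)) : LinearMap.trace E _ (V E (emb f g)) = f (LinearMap.trace F _ (V F g)) := by
  rw [V_eq, V_eq, coe_emb]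
  exact H815.F4Chg.trace_map f _

theorem trace_V' (g : ↥(Zgrp F)) : LinearMap.trace E _ (V' E (emb f g)) = f (LinearMap.trace F _ (V' F g)) := by
  rw [V'_emb_eq, V'_eq]
  exact H815.F4Chg.trace_map f _

theorem trace_L (g : ↥(Zgrp F)) : LinearMap.trace E _ (L E (emb f g)) = f (LinearMap.trace F _ (L F g)) := by
  rw [L_eq', L_eq', ad_emb]
  exact H815.F4Chg.trace_map f _

/-! ### the cubic form -/

theorem mat3_map (x : I27 → F) (k : Fin 3) : mat3 (fun i => f (x i)) k = (mat3 x k).map f := rfl

theorem trace_map' (A : Matrix (Fin 3) (Fin 3) F) : (A.map f).trace = f A.trace := by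
  simp [Matrix.trace, map_sum]

theorem cubicT_map (x : I27 → F) : cubicT (fun i => f (x i)) = f (cubicT x) := by
  unfold cubicT
  rw [mat3_map, mat3_map, mat3_map, ← Matrix.map_mul, ← Matrix.map_mul, trace_map']
  simp only [map_sub, map_add, RingHom.map_det, RingHom.mapMatrix_apply]

theorem tf_map (x y : I27 → F) : tf (fun i => f (x i)) (fun i => f (y i)) = f (tf x y) := by
  unfold tf
  simp only [mat3_map]
  rw [← Matrix.map_mul, ← Matrix.map_mul, ← Matrix.map_mul, trace_map', trace_map', trace_map', map_add, map_add]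

theorem sh_map (x : I27 → F) : sh (fun i => f (x i)) = fun i => f (sh x i) := by
  funext i
  unfold sh ofM
  have h1 : ∀ M : Matrix (Fin 3) (Fin 3) F, (M.map f).adjugate = M.adjugate.map f := fun M =>
    (RingHom.map_adjugate f M).symm
  simp only [mat3_map, h1, ← Matrix.map_mul, Matrix.sub_apply, Matrix.map_apply]
  split_ifs <;> rw [map_sub]

theorem cr_map (x y : I27 → F) : cr (fun i => f (x i)) (fun i => f (y i)) = fun i => f (cr x y i) := by
  unfold cr
  have h : ((fun i => f (x i)) + fun i => f (y i)) = fun i => f ((x + y) i) := by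
    funext i
    simp
  rw [h, sh_map, sh_map, sh_map]
  funext i
  simp

/-! ### descent -/

/-- a matrix over the subfield which belongs to the big group belongs to the small one -/
theorem exists_of_map [Fintype F] (hF : 3 ≤ Fintype.card F) (z : ↥(Zgrp E)) (g : Matrix I27 I27 F)
    (h : ((z : GL I27 E) : Matrix I27 I27 E) = g.map f) :
    ∃ z0 : ↥(Zgrp F), emb f z0 = z ∧ ((z0 : GL I27 F) : Matrix I27 I27 F) = g := by
  have hdet : IsUnit g.det := by
    rw [isUnit_iff_ne_zero]
    intro h0
    have h1 : IsUnit ((z : GL I27 E) : Matrix I27 I27 E).det :=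
      (Matrix.isUnit_iff_isUnit_det _).1 (Units.isUnit _)
    rw [h] at h1
    have h2 : (g.map f).det = f g.det := by rw [RingHom.map_det]; rfl
    rw [h2, h0, map_zero] at h1
    exact not_isUnit_zero h1
  let g0 : GL I27 F := Matrix.GeneralLinearGroup.mk'' g hdet
  have hg0 : (g0 : Matrix I27 I27 F) = g := rfl
  have hmem : g0 ∈ Zgrp F := by
    rw [Zgrp_eq hF]
    intro v
    apply f.injective
    have h1 := Cfsg.Agent.ChevalleyStructure.E6Min.Inv.Zgrp_le E z.2 (fun i => f (v i))
    change cubicT (((z : GL I27 E) : Matrix I27 I27 E).mulVec fun i => f (v i)) = cubicT (fun i => f (v i)) at h1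
    rw [h, map_mulVec, cubicT_map, cubicT_map] at h1
    exact h1
  refine ⟨⟨g0, hmem⟩, ?_, rfl⟩
  apply Subtype.ext
  apply Units.ext
  rw [coe_emb, h]
  rfl

theorem mem_range_of_pow [Fintype F] {x : E} (hx : x ^ Fintype.card F = x) : ∃ y, f y = x := by
  classical
  by_contra hcon
  push Not at hcon
  let p : Polynomial E := Polynomial.X ^ Fintype.card F - Polynomial.X
  have hp : p ≠ 0 := FiniteField.X_pow_card_sub_X_ne_zero E Fintype.one_lt_card
  have hdeg : p.natDegree = Fintype.card F := FiniteField.X_pow_card_sub_X_natDegree_eq E Fintype.one_lt_card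
  let S : Finset E := insert x (Finset.univ.image f)
  have hS : S ⊆ p.roots.toFinset := by
    intro y hy
    rw [Multiset.mem_toFinset, Polynomial.mem_roots hp]
    rcases Finset.mem_insert.1 hy with h | h
    · rw [h]
      simp [p, hx]
    · obtain ⟨z, -, rfl⟩ := Finset.mem_image.1 h
      simp [p, ← map_pow, FiniteField.pow_card]
  have h1 := Finset.card_le_card hS
  have h2 : S.card = Fintype.card F + 1 := by
    rw [Finset.card_insert_of_notMem, Finset.card_image_of_injective _ f.injective, Finset.card_univ]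
    intro h
    obtain ⟨z, -, hz⟩ := Finset.mem_image.1 h
    exact hcon z hz
  have h3 : p.roots.toFinset.card ≤ Fintype.card F := by
    refine (Multiset.toFinset_card_le _).trans ?_
    rw [← hdeg]
    exact Polynomial.card_roots' p
  omega

/-- the fixed points of the Frobenius automorphism -/
theorem exists_of_pow [Fintype F] (hF : 3 ≤ Fintype.card F) (z : ↥(Zgrp E))
    (h : ∀ i j, ((z : GL I27 E) : Matrix I27 I27 E) i j ^ Fintype.card F = ((z : GL I27 E) : Matrix I27 I27 E) i j) :
    ∃ z0 : ↥(Zgrp F), emb f z0 = z := by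
  choose g hg using fun i j => mem_range_of_pow f (h i j)
  obtain ⟨z0, h1, -⟩ := exists_of_map f hF z (Matrix.of g) (by ext i j; exact (hg i j).symm)
  exact ⟨z0, h1⟩

/-- the fixed points of a field automorphism `s` of `E` with `s x = x ^ |F|` -/
theorem exists_of_emb_eq [Fintype F] (hF : 3 ≤ Fintype.card F) (s : E →+* E) (hs : ∀ x, s x = x ^ Fintype.card F)
    (z : ↥(Zgrp E)) (h : emb s z = z) : ∃ z0 : ↥(Zgrp F), emb f z0 = z := by
  refine exists_of_pow f hF z fun i j => ?_
  have h1 := congrArg (fun x : ↥(Zgrp E) => ((x : GL I27 E) : Matrix I27 I27 E) i j) h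
  simp only [coe_emb, Matrix.map_apply, hs] at h1
  exact h1

theorem emb_frob [Fintype F] (s : E →+* E) (hs : ∀ x, s x = x ^ Fintype.card F) (g : ↥(Zgrp F)) :
    emb s (emb f g) = emb f g := by
  rw [emb_emb]
  have h1 : s.comp f = f := by
    ext x
    rw [RingHom.comp_apply, hs, ← map_pow, FiniteField.pow_card]
  rw [h1]

end gen

section ext

variable {F : Type u} {E : Type v} [Field F] [Field E] (f : F →+* E) {n : Type w}

/-- extension of scalars of a subspace -/
def ext (W : Submodule F (n → F)) : Submodule E (n → E) :=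
  Submodule.span E ((fun (x : n → F) (i : n) => f (x i)) '' W)

variable {f}

theorem mem_ext_of_mem {W : Submodule F (n → F)} {x : n → F} (hx : x ∈ W) : (fun i => f (x i)) ∈ ext f W :=
  Submodule.subset_span ⟨x, hx, rfl⟩

theorem ext_le {W : Submodule F (n → F)} {U : Submodule E (n → E)} (h : ∀ x ∈ W, (fun i => f (x i)) ∈ U) :
    ext f W ≤ U := by
  rw [ext, Submodule.span_le]
  rintro _ ⟨x, hx, rfl⟩
  exact h x hx

theorem ext_mono {W W' : Submodule F (n → F)} (h : W ≤ W') : ext f W ≤ ext f W' :=
  ext_le fun _ hx => mem_ext_of_mem (h hx)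

theorem ext_sup (W W' : Submodule F (n → F)) : ext f (W ⊔ W') = ext f W ⊔ ext f W' := by
  apply le_antisymm
  · refine ext_le fun x hx => ?_
    obtain ⟨y, hy, z, hz, rfl⟩ := Submodule.mem_sup.1 hx
    have : (fun i => f ((y + z) i)) = (fun i => f (y i)) + fun i => f (z i) := by
      funext i
      simp
    rw [this]
    exact Submodule.add_mem_sup (mem_ext_of_mem hy) (mem_ext_of_mem hz)
  · exact sup_le (ext_mono le_sup_left) (ext_mono le_sup_right)

theorem ext_bot : ext f (⊥ : Submodule F (n → F)) = ⊥ := by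
  rw [eq_bot_iff]
  refine ext_le fun x hx => ?_
  rw [Submodule.mem_bot] at hx
  rw [hx, Submodule.mem_bot]
  funext i
  simp

variable [Fintype n] [DecidableEq n]

/-- a matrix with kernel `W` -/
theorem exists_matrix (W : Submodule F (n → F)) : ∃ A : Matrix n n F, ∀ x, A.mulVec x = 0 ↔ x ∈ W := by
  obtain ⟨g, hg⟩ := W.subtype.exists_leftInverse_of_injective W.ker_subtype
  let φ : (n → F) →ₗ[F] (n → F) := LinearMap.id - W.subtype.comp g
  refine ⟨LinearMap.toMatrix' φ, fun x => ?_⟩
  rw [LinearMap.toMatrix'_mulVec]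
  show x - (g x : n → F) = 0 ↔ _
  constructor
  · intro h
    rw [sub_eq_zero.1 h]
    exact (g x).2
  · intro hx
    have h1 : g x = ⟨x, hx⟩ := LinearMap.congr_fun hg ⟨x, hx⟩
    rw [h1, sub_self]

theorem mem_ext_iff {W : Submodule F (n → F)} {x : n → F} : (fun i => f (x i)) ∈ ext f W ↔ x ∈ W := by
  refine ⟨fun h => ?_, mem_ext_of_mem⟩
  obtain ⟨A, hA⟩ := exists_matrix W
  have h1 : ext f W ≤ LinearMap.ker (Matrix.toLin' (A.map f)) := by
    refine ext_le fun y hy => ?_
    rw [LinearMap.mem_ker, Matrix.toLin'_apply, map_mulVec, (hA y).2 hy]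
    funext i
    simp
  have h2 := h1 h
  rw [LinearMap.mem_ker, Matrix.toLin'_apply, map_mulVec] at h2
  rw [← hA]
  funext i
  have h3 := congrFun h2 i
  simpa using h3

theorem ext_le_ext {W W' : Submodule F (n → F)} : ext f W ≤ ext f W' ↔ W ≤ W' :=
  ⟨fun h _ hx => mem_ext_iff.1 (h (mem_ext_of_mem hx)), ext_mono⟩

/-- linear independence over the extension field -/
theorem linearIndependent_map {ι : Type*} [Fintype ι] {v : ι → n → F} (hv : LinearIndependent F v) :
    LinearIndependent E (fun (j : ι) (i : n) => f (v j i)) := by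
  classical
  obtain ⟨g, hg⟩ := (Fintype.linearCombination F v).exists_leftInverse_of_injective
    (LinearMap.ker_eq_bot'.2 fun c hc => funext fun j =>
      Fintype.linearIndependent_iff.1 hv c (by rwa [Fintype.linearCombination_apply] at hc) j)
  have hP : ∀ j, (LinearMap.toMatrix' g).mulVec (v j) = Pi.single j 1 := by
    intro j
    rw [LinearMap.toMatrix'_mulVec]
    have h1 := LinearMap.congr_fun hg (Pi.single j 1)
    rw [LinearMap.comp_apply, Fintype.linearCombination_apply_single, one_smul] at h1
    exact h1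
  rw [Fintype.linearIndependent_iff]
  intro c hc j
  have h1 : ((LinearMap.toMatrix' g).map f).mulVec (∑ k, c k • fun i => f (v k i)) =
      ((LinearMap.toMatrix' g).map f).mulVec 0 := by rw [hc]
  rw [Matrix.mulVec_sum, Matrix.mulVec_zero] at h1
  have h2 : ∀ k, ((LinearMap.toMatrix' g).map f).mulVec (c k • fun i => f (v k i)) = c k • Pi.single k 1 := by
    intro k
    rw [Matrix.mulVec_smul]
    congr 1
    funext l
    have h3 := congrArg f (congrFun (hP k) l)
    rw [Pi.single_apply, apply_ite f, map_one, map_zero] at h3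
    rw [Pi.single_apply, ← h3]
    simp only [Matrix.mulVec, dotProduct, Matrix.map_apply, map_sum, map_mul]
  rw [Finset.sum_congr rfl fun k _ => h2 k] at h1
  have h3 := congrFun h1 j
  simpa [Finset.sum_apply, Pi.single_apply] using h3

theorem finrank_ext (W : Submodule F (n → F)) : finrank E ↥(ext f W) = finrank F ↥W := by
  let b := Module.finBasis F ↥W
  have hv : LinearIndependent F (fun j => (b j : n → F)) :=
    b.linearIndependent.map' W.subtype W.ker_subtype
  have h1 := linearIndependent_map (f := f) hv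
  have h2 : ext f W = Submodule.span E (Set.range fun (j : Fin (finrank F ↥W)) (i : n) => f ((b j : n → F) i)) := by
    apply le_antisymm
    · refine ext_le fun x hx => ?_
      have h3 := b.sum_repr ⟨x, hx⟩
      have h4 : x = ∑ j, (b.repr ⟨x, hx⟩ j) • (b j : n → F) := by
        have h6 := congrArg W.subtype h3
        rw [map_sum] at h6
        exact h6.symm
      have h5 : (fun i => f (x i)) = ∑ j, f (b.repr ⟨x, hx⟩ j) • fun i => f ((b j : n → F) i) := by
        funext i
        conv_lhs => rw [h4]
        simp [Finset.sum_apply, map_sum]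
      rw [h5]
      exact Submodule.sum_mem _ fun j _ => Submodule.smul_mem _ _ (Submodule.subset_span ⟨j, rfl⟩)
    · rw [Submodule.span_le]
      rintro _ ⟨j, rfl⟩
      exact mem_ext_of_mem (b j).2
  rw [h2, finrank_span_eq_card h1, Fintype.card_fin]

theorem ext_es (A : Matrix n n F) (μ : F) :
    ext f (es (Matrix.toLin' A) μ) = es (Matrix.toLin' (A.map f)) (f μ) := by
  refine Submodule.eq_of_le_of_finrank_eq (ext_le fun x hx => ?_) ?_
  · have h1 : Matrix.toLin' A x = μ • x := Module.End.mem_eigenspace_iff.1 hx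
    refine Module.End.mem_eigenspace_iff.2 ?_
    rw [Matrix.toLin'_apply] at h1 ⊢
    rw [map_mulVec, h1]
    funext i
    simp
  · rw [finrank_ext]
    exact (H815.F4Chg.ev_map f A μ).symm

/-- vectors all whose coordinate vectors over the small field belong to `W` -/
theorem mem_ext_of_forall {W : Submodule F (n → F)} {y : n → E}
    (h : ∀ l : E → F, (∀ a b, l (a + b) = l a + l b) → (∀ (c : F) (a : E), l (f c * a) = c * l a) →
      (fun i => l (y i)) ∈ W) : y ∈ ext f W := by
  let _ := f.toAlgebra
  classical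
  let b := Module.Basis.ofVectorSpace F E
  have h1 : ∀ k, (fun i => b.coord k (y i)) ∈ W := fun k => h (fun a => b.coord k a) (fun a a' => map_add _ a a')
    (fun c a => by
      have : f c * a = c • a := (Algebra.smul_def c a).symm
      show b.coord k (f c * a) = c * b.coord k a
      rw [this, map_smul, smul_eq_mul])
  let S : Finset _ := Finset.univ.biUnion fun i : n => (b.repr (y i)).support
  have h2 : y = ∑ k ∈ S, b k • fun i => f (b.coord k (y i)) := by
    funext i
    rw [Finset.sum_apply]
    have h3 := b.linearCombination_repr (y i)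
    rw [Finsupp.linearCombination_apply, Finsupp.sum] at h3
    conv_lhs => rw [← h3]
    have hsub : (b.repr (y i)).support ⊆ S := Finset.subset_biUnion_of_mem (fun i : n => (b.repr (y i)).support)
      (Finset.mem_univ i)
    rw [Finset.sum_subset hsub (fun k _ hk => by rw [Finsupp.notMem_support_iff.1 hk, zero_smul])]
    refine Finset.sum_congr rfl fun k _ => ?_
    rw [Algebra.smul_def]
    exact mul_comm _ _
  rw [h2]
  exact Submodule.sum_mem _ fun k _ => Submodule.smul_mem _ _ (mem_ext_of_mem (h1 k))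

/-- common fixed vectors of matrices over the small field -/
theorem mem_ext_fixed {ι : Type*} (A : ι → Matrix n n F) (W : Submodule F (n → F))
    (hW : ∀ x, (∀ j, (A j).mulVec x = x) → x ∈ W) {y : n → E} (hy : ∀ j, ((A j).map f).mulVec y = y) :
    y ∈ ext f W := by
  refine mem_ext_of_forall fun l hl hl' => hW _ fun j => ?_
  let l' : E →+ F := AddMonoidHom.mk' l hl
  funext i
  have h1 := congrArg l' (congrFun (hy j) i)
  simp only [Matrix.mulVec, dotProduct, Matrix.map_apply] at h1 ⊢
  rw [map_sum] at h1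
  rw [show l (y i) = l' (y i) from rfl, ← h1]
  exact Finset.sum_congr rfl fun k _ => (hl' _ _).symm

end ext

section e6

variable {F : Type u} {E : Type v} [Field F] [Field E] {f : F →+* E}

theorem ext_es_V (g : ↥(Zgrp F)) (μ : F) : ext f (es (V F g) μ) = es (V E (emb f g)) (f μ) := by
  rw [V_eq, V_eq, coe_emb]
  exact ext_es _ μ

theorem ext_es_V' (g : ↥(Zgrp F)) (μ : F) : ext f (es (V' F g) μ) = es (V' E (emb f g)) (f μ) := by
  rw [V'_emb_eq, V'_eq]
  exact ext_es _ μ

theorem ext_es_L (g : ↥(Zgrp F)) (μ : F) : ext f (es (L F g) μ) = es (L E (emb f g)) (f μ) := by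
  rw [L_eq', L_eq', ad_emb]
  exact ext_es _ μ

variable {A : Type*} [Group A] (ψ : A →* ↥(Zgrp F))

theorem ext_inv_V : ext f (Representation.invariants (MonoidHom.comp (V F) ψ)) =
    Representation.invariants (MonoidHom.comp (V E) ((emb f).comp ψ)) := by
  apply le_antisymm
  · refine ext_le fun x hx => ?_
    rw [Representation.mem_invariants] at hx ⊢
    intro a
    show V E (emb f (ψ a)) (fun i => f (x i)) = _
    rw [V_emb, show V F (ψ a) x = x from hx a]
  · intro y hy
    rw [Representation.mem_invariants] at hy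
    refine mem_ext_fixed (fun a : A => ((ψ a : GL I27 F) : Matrix I27 I27 F)) _ (fun x hx => ?_) (y := y) fun a => ?_
    · rw [Representation.mem_invariants]
      exact fun a => hx a
    · exact hy a

theorem ext_inv_V' : ext f (Representation.invariants (MonoidHom.comp (V' F) ψ)) =
    Representation.invariants (MonoidHom.comp (V' E) ((emb f).comp ψ)) := by
  apply le_antisymm
  · refine ext_le fun x hx => ?_
    rw [Representation.mem_invariants] at hx ⊢
    intro a
    show V' E (emb f (ψ a)) (fun i => f (x i)) = _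
    rw [V'_emb, show V' F (ψ a) x = x from hx a]
  · intro y hy
    rw [Representation.mem_invariants] at hy
    refine mem_ext_fixed (fun a : A => ((gU (ψ a : GL I27 F) : GL I27 F) : Matrix I27 I27 F)) _ (fun x hx => ?_) (y := y)
      fun a => ?_
    · rw [Representation.mem_invariants]
      exact fun a => hx a
    · have h1 : V' E (emb f (ψ a)) y = y := hy a
      rw [V'_emb_eq] at h1
      exact h1

theorem ext_inv_L : ext f (Representation.invariants (MonoidHom.comp (L F) ψ)) =
    Representation.invariants (MonoidHom.comp (L E) ((emb f).comp ψ)) := by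
  apply le_antisymm
  · refine ext_le fun x hx => ?_
    rw [Representation.mem_invariants] at hx ⊢
    intro a
    show L E (emb f (ψ a)) (fun i => f (x i)) = _
    rw [L_emb, show L F (ψ a) x = x from hx a]
  · intro y hy
    rw [Representation.mem_invariants] at hy
    refine mem_ext_fixed (fun a : A => (((ad F (ψ a) : ↥(chevE6.group F)) : GL chevE6.Idx F) :
      Matrix chevE6.Idx chevE6.Idx F)) _ (fun x hx => ?_) (y := y) fun a => ?_
    · rw [Representation.mem_invariants]
      intro a
      show L F (ψ a) x = x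
      rw [L_apply]
      exact hx a
    · have h1 : L E (emb f (ψ a)) y = y := hy a
      rw [L_apply, ad_emb] at h1
      exact h1

/-- stable subspaces -/
theorem ext_stable_V {g : ↥(Zgrp F)} {W : Submodule F (I27 → F)} (h : ∀ w ∈ W, V F g w ∈ W) :
    ∀ w ∈ ext f W, V E (emb f g) w ∈ ext f W := by
  intro w hw
  have h1 : ext f W ≤ (ext f W).comap (V E (emb f g)) := ext_le fun x hx => by
    rw [Submodule.mem_comap, V_emb]
    exact mem_ext_of_mem (h x hx)
  exact h1 hw

theorem ext_stable_V' {g : ↥(Zgrp F)} {W : Submodule F (I27 → F)} (h : ∀ w ∈ W, V' F g w ∈ W) :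
    ∀ w ∈ ext f W, V' E (emb f g) w ∈ ext f W := by
  intro w hw
  have h1 : ext f W ≤ (ext f W).comap (V' E (emb f g)) := ext_le fun x hx => by
    rw [Submodule.mem_comap, V'_emb]
    exact mem_ext_of_mem (h x hx)
  exact h1 hw

end e6

section ts

variable {F E : Type u} [Field F] [Field E] {f : F →+* E}

open Cfsg.Agent.H952.F4.Jord in
theorem ext_TS {W : Submodule F (I27 → F)} (h : TS W) : TS (ext f W) := by
  have h1 : ∀ x ∈ ext f W, ∀ y ∈ W, cr x (fun i => f (y i)) = 0 := by
    intro x hx y hy
    induction hx using Submodule.span_induction with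
    | mem x hx =>
      obtain ⟨z, hz, rfl⟩ := hx
      rw [cr_map, h.2 z hz y hy]
      funext i
      simp
    | zero =>
      have := cr_smul_left (0 : E) (0 : I27 → E) (fun i => f (y i))
      rwa [zero_smul, zero_smul] at this
    | add a b _ _ ha hb => rw [cr_add_left, ha, hb, add_zero]
    | smul c a _ ha => rw [cr_smul_left, ha, smul_zero]
  have h2 : ∀ x ∈ ext f W, ∀ y ∈ ext f W, cr x y = 0 := by
    intro x hx y hy
    induction hy using Submodule.span_induction with
    | mem y hy =>
      obtain ⟨z, hz, rfl⟩ := hy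
      exact h1 x hx z hz
    | zero =>
      have := cr_smul_right (0 : E) x (0 : I27 → E)
      rwa [zero_smul, zero_smul] at this
    | add a b _ _ ha hb => rw [cr_add_right, ha, hb, add_zero]
    | smul c a _ ha => rw [cr_smul_right, ha, smul_zero]
  refine ⟨fun x hx => ?_, h2⟩
  induction hx using Submodule.span_induction with
  | mem y hy =>
    obtain ⟨z, hz, rfl⟩ := hy
    rw [sh_map, h.1 z hz]
    funext i
    simp
  | zero =>
    have := sh_smul (0 : E) (0 : I27 → E)
    rwa [zero_pow two_ne_zero, zero_smul, zero_smul] at this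
  | add a b ha' hb' ha hb => rw [sh_add, ha, hb, h2 a ha' b hb', add_zero, add_zero]
  | smul c a _ ha => rw [sh_smul, ha, smul_zero]

theorem TS_of_ext {W : Submodule F (I27 → F)} (h : TS (ext f W)) : TS W := by
  refine ⟨fun x hx => ?_, fun x hx y hy => ?_⟩
  · have h1 := h.1 _ (mem_ext_of_mem hx)
    rw [sh_map] at h1
    funext i
    have h2 := congrFun h1 i
    simpa using h2
  · have h1 := h.2 _ (mem_ext_of_mem hx) _ (mem_ext_of_mem hy)
    rw [cr_map] at h1
    funext i
    have h2 := congrFun h1 i
    simpa using h2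

end ts

end Cfsg.Agent.H65.E6Emb

namespace Cfsg.Agent.H163.E6.Sing

open Cfsg Cfsg.Lie Module
open Cfsg.Agent.ChevalleyStructure.E6Min.Tables Cfsg.Agent.ChevalleyStructure.E6Min.Basic

universe u

/-- the map of simply connected groups given by a homomorphism of fields -/
theorem exists_emb {F : Type u} [Field F] {E : Type u} [Field E] (f : F →+* E) : ∃ j : ↥(Zgrp F) →* ↥(Zgrp E),
    ∀ (g : ↥(Zgrp F)) (x : I27 → F), V E (j g) (fun i => f (x i)) = fun i => f (V F g x i) :=
  ⟨Cfsg.Agent.H65.E6Emb.emb f, fun g x => Cfsg.Agent.H65.E6Emb.V_emb f g x⟩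

/-- such a map is unique -/
theorem emb_unique {F : Type u} [Field F] {E : Type u} [Field E] (f : F →+* E) (j : ↥(Zgrp F) →* ↥(Zgrp E))
    (hj : ∀ (g : ↥(Zgrp F)) (x : I27 → F), V E (j g) (fun i => f (x i)) = fun i => f (V F g x i)) :
    j = Cfsg.Agent.H65.E6Emb.emb f := by
  ext1 g
  apply Subtype.ext
  apply Units.ext
  ext a b
  have h1 := hj g (Pi.single b 1)
  rw [← Cfsg.Agent.H65.E6Emb.V_emb f g (Pi.single b 1)] at h1
  have h2 : (fun i => f ((Pi.single b 1 : I27 → F) i)) = Pi.single b 1 := by
    funext i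
    rw [Pi.single_apply, Pi.single_apply, apply_ite f, map_one, map_zero]
  rw [h2] at h1
  have h3 := congrFun h1 a
  rw [V_apply, V_apply, Matrix.mulVec_single_one, Matrix.mulVec_single_one] at h3
  exact h3

end Cfsg.Agent.H163.E6.Sing
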