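import Mathlib
import Cfsg.Agent.H65.E6Emb

/-!
# The simply connected group of type `E₆` over an arbitrary field is the stabiliser of the cubic polynomial (helper65)

`IsFull g` : `g` preserves `cubicT` and its partial linearisation `D` (i.e. the cubic polynomial). `mem_Zgrp_iff` : for EVERY field
`g ∈ Zgrp F ↔ IsFull g` (the elimination of `E6Min.Elim` with `D_inv` as a hypothesis). `Zgrp_eq_of_three` : `Zgrp F = E6univ F` for
every field with more than two elements (also infinite). Descent for all fields: `exists_of_map_all`, `exists_of_pow_all`,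
`exists_of_emb_eq_all`.
-/

set_option autoImplicit false
set_option linter.unusedSectionVars false

namespace Cfsg.Agent.H65.E6Full

open Cfsg Cfsg.Lie Module
open Cfsg.Agent.ChevalleyStructure.E6Min.Tables Cfsg.Agent.ChevalleyStructure.E6Min.Basic
  Cfsg.Agent.ChevalleyStructure.E6Min.Inv Cfsg.Agent.ChevalleyStructure.E6Min.Forms
  Cfsg.Agent.ChevalleyStructure.E6Min.Elim Cfsg.Agent.ChevalleyStructure.E6Min.Torus
open Cfsg.Agent.H65.E6Emb
open scoped Matrix

universe u v

section ring

variable {R : Type u} {S : Type v} [CommRing R] [CommRing S]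

theorem D_map (f : R →+* S) (v w : I27 → R) : D (fun i => f (v i)) (fun i => f (w i)) = f (D v w) := by
  unfold D
  rw [map_sum]
  refine Finset.sum_congr rfl fun n _ => ?_
  simp only [map_mul, map_add, map_intCast]

theorem cubicT_map' (f : R →+* S) (v : I27 → R) : cubicT (fun i => f (v i)) = f (cubicT v) := by
  rw [cubicT_eq_sum, cubicT_eq_sum, map_sum]
  refine Finset.sum_congr rfl fun n _ => ?_
  simp only [map_mul, map_intCast]

theorem zM_map' (f : R →+* S) (r : ℕ) (t : R) (v : I27 → R) :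
    zM r (f t) *ᵥ (fun i => f (v i)) = fun i => f ((zM r t *ᵥ v) i) := by
  funext x
  rw [zM_mulVec, zM_mulVec]
  simp only [map_mul, map_add, map_intCast]

open Polynomial in
theorem D_zM {r : ℕ} (hr : r < 72) (t : R) (v w : I27 → R) : D (zM r t *ᵥ v) (zM r t *ᵥ w) = D v w := by
  have h1 := cubicT_zM hr (C t : R[X]) ((fun i => C (v i)) + (X : R[X]) • fun i => C (w i))
  rw [Matrix.mulVec_add, Matrix.mulVec_smul, zM_map' C r t v, zM_map' C r t w, cubicT_add_smul, cubicT_add_smul,
    cubicT_map' C, cubicT_map' C, cubicT_map' C, cubicT_map' C, D_map C, D_map C, D_map C, D_map C,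
    cubicT_zM hr, cubicT_zM hr] at h1
  have h2 := congrArg (fun p : R[X] => p.coeff 1) h1
  simp only [coeff_add] at h2
  have e1 : ∀ a : R, (C a : R[X]).coeff 1 = 0 := fun a => coeff_C_of_ne_zero one_ne_zero
  have e2 : ∀ a : R, ((X : R[X]) * C a).coeff 1 = a := fun a => by
    rw [show (1 : ℕ) = 0 + 1 from rfl, coeff_X_mul, coeff_C_zero]
  have e3 : ∀ a : R, ((X : R[X]) ^ 2 * C a).coeff 1 = 0 := fun a => by
    rw [coeff_X_pow_mul', if_neg (by norm_num)]
  have e4 : ∀ a : R, ((X : R[X]) ^ 3 * C a).coeff 1 = 0 := fun a => by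
    rw [coeff_X_pow_mul', if_neg (by norm_num)]
  rw [e1, e2, e2, e3, e3, e4] at h2
  simpa using h2

end ring

section

variable {F : Type u} [Field F]

/-- `g` preserves the cubic polynomial -/
def IsFull (g : GL I27 F) : Prop :=
  g ∈ E6univ F ∧ ∀ v w, D ((g : Matrix I27 I27 F) *ᵥ v) ((g : Matrix I27 I27 F) *ᵥ w) = D v w

theorem IsFull.mul {g h : GL I27 F} (hg : IsFull g) (hh : IsFull h) : IsFull (g * h) :=
  ⟨mul_mem hg.1 hh.1, fun v w => by
    rw [coe_mul_mulVec, coe_mul_mulVec, hg.2, hh.2]⟩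

theorem IsFull.inv {g : GL I27 F} (hg : IsFull g) : IsFull g⁻¹ :=
  ⟨inv_mem hg.1, fun v w => by
    rw [← hg.2, ← coe_mul_mulVec, ← coe_mul_mulVec, mul_inv_cancel, Units.val_one, Matrix.one_mulVec,
      Matrix.one_mulVec]⟩

theorem isFull_of_mem {g : GL I27 F} (hg : g ∈ Zgrp F) : IsFull g := by
  refine ⟨Zgrp_le F hg, ?_⟩
  unfold Zgrp at hg
  induction hg using Subgroup.closure_induction with
  | mem x hx =>
    obtain ⟨r, t, hr, h⟩ := hx
    intro v w
    rw [h, D_zM hr]
  | one => intro v w; rw [Units.val_one, Matrix.one_mulVec, Matrix.one_mulVec]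
  | mul x y _ _ hx hy => intro v w; rw [coe_mul_mulVec, coe_mul_mulVec, hx, hy]
  | inv x _ hx =>
    intro v w
    rw [← hx, ← coe_mul_mulVec, ← coe_mul_mulVec, mul_inv_cancel, Units.val_one, Matrix.one_mulVec,
      Matrix.one_mulVec]

theorem clear' {g : GL I27 F} (hg : IsFull g) {i : I27} (M : List ℕ)
    (hi : code i ∉ M) (hM : ∀ m, code m ∈ M → Scales g m) (hv : ((g : Matrix I27 I27 F) *ᵥ e F i) i ≠ 0) :
    ∃ z ∈ Zgrp F, (∀ m, code m ∈ M → Scales (z * g) m) ∧ Scales (z * g) i := by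
  set v := (g : Matrix I27 I27 F) *ᵥ e F i with hvdef
  obtain ⟨z, hz, hz1, hz2, hz3, -⟩ := clear_aux v hv M hi
    (fun m hm h1 j h2 => coord_zero hg.1 (hM m hm) h1 h2)
    ((Finset.univ.filter fun j => rel i j = 1).toList) (by intro j hj; simpa using hj)
  have hzg : IsFull (z * g) := (isFull_of_mem hz).mul hg
  refine ⟨z, hz, fun m hm => scales_mul (hz1 m hm) (hM m hm), v i, hv, ?_⟩
  rw [coe_mul_mulVec, ← hvdef]
  have hu1 : ∀ j, rel i j = 1 → ((z : Matrix I27 I27 F) *ᵥ v) j = 0 := fun j hj => hz3 j (by simpa using hj)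
  have hsing : ∀ w, D ((z : Matrix I27 I27 F) *ᵥ v) w = 0 := by
    intro w
    have h1 := hzg.2 (e F i) ((((z * g)⁻¹ : GL I27 F) : Matrix I27 I27 F) *ᵥ w)
    rw [mulVec_inv_cancel, D_single, coe_mul_mulVec] at h1
    exact h1
  ext k
  rcases rel_cases i k with rfl | h | h
  · rw [hz2, Pi.smul_apply, e_apply, if_pos rfl, smul_eq_mul, mul_one]
  · have hne : k ≠ i := fun h' => by
      have := (rel_eq_zero_iff i k).mpr h'.symm
      omega
    rw [hu1 k h, Pi.smul_apply, e_apply, if_neg hne, smul_zero]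
  · have hne : k ≠ i := fun h' => by
      have := (rel_eq_zero_iff i k).mpr h'.symm
      omega
    obtain ⟨-, -, -, -, h3, -, h4⟩ := th_spec h
    have h5 := D_basis h3 _ hu1
    rw [hsing, h4, hz2] at h5
    rw [Pi.smul_apply, e_apply, if_neg hne, smul_zero]
    rcases mul_eq_zero.mp h5.symm with h6 | h6
    · exact absurd h6 (tsN_ne_zero _)
    · rcases mul_eq_zero.mp h6 with h7 | h7
      · exact absurd h7 hv
      · exact h7

theorem step' {g : GL I27 F} (hg : IsFull g) {M : List ℕ} {i ty m0 k0 : ℕ}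
    (hi : i < 27) (hMlt : ∀ m ∈ M, m < 27) (hM : ∀ m, code m ∈ M → Scales g m)
    (hs : stepN M i ty m0 k0 = true) :
    ∃ z ∈ Zgrp F, ∀ m, code m ∈ i :: M → Scales (z * g) m := by
  have hci : code (dec i) = i := code_dec hi
  unfold stepN at hs
  rw [Bool.and_eq_true] at hs
  obtain ⟨hs0, hs⟩ := hs
  have hiM : code (dec i) ∉ M := by
    rw [hci]; simpa using hs0
  have main : (∃ z ∈ Zgrp F, (∀ m, code m ∈ M → (z : Matrix I27 I27 F) *ᵥ e F m = e F m) ∧
      ((z : Matrix I27 I27 F) *ᵥ ((g : Matrix I27 I27 F) *ᵥ e F (dec i))) (dec i) ≠ 0) →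
      ∃ z ∈ Zgrp F, ∀ m, code m ∈ i :: M → Scales (z * g) m := by
    rintro ⟨z, hz, hz1, hz2⟩
    rw [← coe_mul_mulVec] at hz2
    obtain ⟨z', hz', h1, h2⟩ := clear' ((isFull_of_mem hz).mul hg) M hiM
      (fun m hm => scales_mul (hz1 m hm) (hM m hm)) hz2
    refine ⟨z' * z, mul_mem hz' hz, fun m hm => ?_⟩
    rw [mul_assoc]
    rcases List.mem_cons.mp hm with h3 | h3
    · have : m = dec i := by rw [← h3, dec_code]
      rw [this]; exact h2
    · exact h1 m h3
  apply main
  split_ifs at hs with ht0 ht1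
  · obtain ⟨j, hj⟩ := exists_coord_ne g (dec i)
    have h1 := allLt_spec hs _ (code_lt j)
    have h2 := allowed_of hg.1 hM hMlt hj
    rw [hci] at h2
    rw [h2] at h1
    have h3 : pathN M (code (dec i)) (code j) = true := by rw [hci]; simpa using h1
    exact path_spec h3 _ hj
  · simp only [Bool.and_eq_true, beq_iff_eq, Nat.blt_eq] at hs
    obtain ⟨⟨⟨h1, h2⟩, h3⟩, h4⟩ := hs
    have hcm : code (dec m0) = m0 := code_dec h3
    obtain ⟨j, hj1, hj⟩ := exists_coord hg.1 (m := dec m0) (i := dec i)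
      (hM _ (by rw [hcm]; simpa using h1)) (by unfold rel; rw [hcm, hci]; exact h2)
    have h5 := allLt_spec h4 _ (code_lt j)
    have h6 := allowed_of hg.1 hM hMlt hj
    rw [hci] at h6
    unfold rel at hj1
    rw [hcm] at hj1
    rw [h6, hj1] at h5
    have h7 : pathN M (code (dec i)) (code j) = true := by rw [hci]; simpa using h5
    exact path_spec h7 _ hj
  · simp only [Bool.and_eq_true, beq_iff_eq, Nat.blt_eq] at hs
    obtain ⟨⟨⟨⟨⟨h1, h2⟩, h3⟩, h4⟩, h5⟩, h6⟩ := hs
    have hcm : code (dec m0) = m0 := code_dec h5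
    have hck : code (dec k0) = k0 := code_dec h6
    have hth : th (dec m0) (dec k0) = dec i := by unfold th; rw [hcm, hck, h4]
    have h7 := third_coord hg.1 (m := dec m0) (k := dec k0) (hM _ (by rw [hcm]; simpa using h1))
      (hM _ (by rw [hck]; simpa using h2)) (by unfold rel; rw [hcm, hck]; exact h3)
    rw [hth] at h7
    refine ⟨1, one_mem _, ?_, ?_⟩
    · intro m _; rw [Units.val_one, Matrix.one_mulVec]
    · rw [Units.val_one, Matrix.one_mulVec]; exact h7

theorem elim_aux' (l : List (ℕ × ℕ × ℕ × ℕ)) :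
    ∀ (M : List ℕ) (g : GL I27 F), IsFull g → (∀ m ∈ M, m < 27) → (∀ m, code m ∈ M → Scales g m) →
      checkSeq M l = true → ∃ z ∈ Zgrp F, ∀ m, Scales (z * g) m := by
  induction l with
  | nil =>
    intro M g hg hMlt hM hc
    refine ⟨1, one_mem _, fun m => ?_⟩
    rw [one_mul]
    have := allLt_spec (show (allLt 27 fun x => M.contains x) = true from hc) _ (code_lt m)
    exact hM m (by simpa using this)
  | cons s l ih =>
    intro M g hg hMlt hM hc
    have hc' : (Nat.blt s.1 27 && stepN M s.1 s.2.1 s.2.2.1 s.2.2.2 && checkSeq (s.1 :: M) l) = true := hc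
    rw [Bool.and_eq_true, Bool.and_eq_true, Nat.blt_eq] at hc'
    obtain ⟨⟨h1, h2⟩, h3⟩ := hc'
    obtain ⟨z, hz, hz1⟩ := step' hg h1 hMlt hM h2
    obtain ⟨z', hz', h4⟩ := ih (s.1 :: M) (z * g) ((isFull_of_mem hz).mul hg)
      (by intro m hm; rcases List.mem_cons.mp hm with rfl | hm; exacts [h1, hMlt m hm]) hz1 h3
    refine ⟨z' * z, mul_mem hz' hz, fun m => ?_⟩
    rw [mul_assoc]; exact h4 m

/-- **The simply connected group is the stabiliser of the cubic polynomial** (every field). -/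
theorem mem_Zgrp_iff {g : GL I27 F} : g ∈ Zgrp F ↔ IsFull g := by
  refine ⟨isFull_of_mem, fun hg => ?_⟩
  obtain ⟨z, hz, h⟩ := elim_aux' seq [] g hg (by simp) (by simp) seq_check
  have h1 := diag_mem (mul_mem (mem_E6univ_of_mem hz) hg.1) h
  have h2 := mul_mem (inv_mem hz) h1
  rwa [inv_mul_cancel_left] at h2

/-- every field with more than two elements, also infinite -/
theorem Zgrp_eq_of_three (hF : ∃ c : F, c ≠ 0 ∧ c ≠ 1) : Zgrp F = E6univ F := by
  refine le_antisymm (Zgrp_le F) fun g hg => mem_Zgrp_iff.2 ⟨hg, fun v w => ?_⟩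
  rw [mem_E6univ_iff] at hg
  obtain ⟨c, hc0, hc1⟩ := hF
  have key : ∀ c : F, c * D ((g : Matrix I27 I27 F) *ᵥ v) ((g : Matrix I27 I27 F) *ᵥ w) +
      c ^ 2 * D ((g : Matrix I27 I27 F) *ᵥ w) ((g : Matrix I27 I27 F) *ᵥ v) = c * D v w + c ^ 2 * D w v := by
    intro c
    have h1 := hg (v + c • w)
    rw [Matrix.mulVec_add, Matrix.mulVec_smul, cubicT_add_smul, cubicT_add_smul, hg v, hg w] at h1
    linear_combination h1
  have h1 := key 1
  have h2 := key c
  have h3 : (c - c ^ 2) * (D ((g : Matrix I27 I27 F) *ᵥ v) ((g : Matrix I27 I27 F) *ᵥ w) - D v w) = 0 := by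
    linear_combination h2 - c ^ 2 * h1
  rcases mul_eq_zero.mp h3 with h4 | h4
  · exfalso
    have : c * (1 - c) = 0 := by linear_combination h4
    rcases mul_eq_zero.mp this with h5 | h5
    · exact hc0 h5
    · exact hc1 (by linear_combination -h5)
  · linear_combination h4

end

section descent

variable {F : Type u} {E : Type v} [Field F] [Field E] (f : F →+* E)

/-- a matrix over the subfield which belongs to the big group belongs to the small one (every field) -/
theorem exists_of_map_all (z : ↥(Zgrp E)) (g : Matrix I27 I27 F)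
    (h : ((z : GL I27 E) : Matrix I27 I27 E) = g.map f) :
    ∃ z0 : ↥(Zgrp F), emb f z0 = z ∧ ((z0 : GL I27 F) : Matrix I27 I27 F) = g := by
  have hdet : IsUnit g.det := by
    rw [isUnit_iff_ne_zero]
    intro h0
    have h1 : IsUnit ((z : GL I27 E) : Matrix I27 I27 E).det :=
      (Matrix.isUnit_iff_isUnit_det _).1 (Units.isUnit _)
    rw [h] at h1
    have h2 : (g.map f).det = f g.det := by rw [RingHom.map_det]; rfl
    rw [h2, h0, map_zero] at h1
    exact not_isUnit_zero h1
  let g0 : GL I27 F := Matrix.GeneralLinearGroup.mk'' g hdet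
  have hz := isFull_of_mem z.2
  have hmem : g0 ∈ Zgrp F := by
    rw [mem_Zgrp_iff]
    refine ⟨fun v => ?_, fun v w => ?_⟩
    · apply f.injective
      have h1 := hz.1 (fun i => f (v i))
      change cubicT (((z : GL I27 E) : Matrix I27 I27 E).mulVec fun i => f (v i)) = cubicT (fun i => f (v i)) at h1
      rw [h, map_mulVec, cubicT_map, cubicT_map] at h1
      exact h1
    · apply f.injective
      have h1 := hz.2 (fun i => f (v i)) (fun i => f (w i))
      rw [h, map_mulVec, map_mulVec, D_map, D_map] at h1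
      exact h1
  refine ⟨⟨g0, hmem⟩, ?_, rfl⟩
  apply Subtype.ext
  apply Units.ext
  rw [coe_emb, h]
  rfl

/-- the fixed points of the Frobenius automorphism -/
theorem exists_of_pow_all [Fintype F] (z : ↥(Zgrp E))
    (h : ∀ i j, ((z : GL I27 E) : Matrix I27 I27 E) i j ^ Fintype.card F = ((z : GL I27 E) : Matrix I27 I27 E) i j) :
    ∃ z0 : ↥(Zgrp F), emb f z0 = z := by
  choose g hg using fun i j => mem_range_of_pow f (h i j)
  obtain ⟨z0, h1, -⟩ := exists_of_map_all f z (Matrix.of g) (by ext i j; exact (hg i j).symm)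
  exact ⟨z0, h1⟩

/-- the fixed points of a field automorphism `s` of `E` with `s x = x ^ |F|` -/
theorem exists_of_emb_eq_all [Fintype F] (s : E →+* E) (hs : ∀ x, s x = x ^ Fintype.card F)
    (z : ↥(Zgrp E)) (h : emb s z = z) : ∃ z0 : ↥(Zgrp F), emb f z0 = z := by
  refine exists_of_pow_all f z fun i j => ?_
  have h1 := congrArg (fun x : ↥(Zgrp E) => ((x : GL I27 E) : Matrix I27 I27 E) i j) h
  simp only [coe_emb, Matrix.map_apply, hs] at h1
  exact h1

end descent

end Cfsg.Agent.H65.E6Full
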