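import Mathlib
import Cfsg.Agent.H65.E6Full

/-!
# S5927, `Sing.three_ext`: a one-parameter group of root elements over the quadratic extension commuting with `B ≤ Zgrp F`
yields a non-central element of `Zgrp F` commuting with `B` (helper65)
-/

set_option autoImplicit false
set_option linter.unusedSectionVars false

namespace Cfsg.Agent.H65.E6Ext

open Cfsg Cfsg.Lie Module
open Cfsg.Agent.ChevalleyStructure.E6Min.Tables Cfsg.Agent.ChevalleyStructure.E6Min.Basic
  Cfsg.Agent.ChevalleyStructure.E6Min.Adjoint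
open Cfsg.Agent.H163.E6 Cfsg.Agent.H65.E6Emb
open scoped Matrix

universe u v

section scalar

variable {F : Type u} [Field F]

theorem chk_sep : ∀ x y : I27, x ≠ y → ∃ r : Fin 72, sg r x ≠ 0 ∧ sg r y = 0 := by
  decide +kernel

theorem chk_conn : ∀ x : I27, ∃ r : Fin 72, (x = dec 0 ∨ (sg r x ≠ 0 ∧ sr r x = dec 0)) ∨
    ∃ s : Fin 72, sg r x ≠ 0 ∧ sg s (sr r x) ≠ 0 ∧ sr s (sr r x) = dec 0 := by
  decide +kernel

theorem chk_sg : ∀ (r : Fin 72) (x : I27), sg r x = 0 ∨ sg r x = 1 ∨ sg r x = -1 := by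
  decide +kernel

theorem sg_ne_zero {r : ℕ} (hr : r < 72) {x : I27} (h : sg r x ≠ 0) : ((sg r x : ℤ) : F) ≠ 0 := by
  rcases chk_sg ⟨r, hr⟩ x with h1 | h1 | h1
  · exact absurd h1 h
  · change sg r x = 1 at h1
    rw [h1, Int.cast_one]; exact one_ne_zero
  · change sg r x = -1 at h1
    rw [h1, Int.cast_neg, Int.cast_one]; exact neg_ne_zero.2 one_ne_zero

/-- Matrices commuting with all the `N_r` are scalar (after helper689). -/
theorem scalar_of_comm {g : Matrix I27 I27 F}
    (h : ∀ r < 72, g * Nm F r = Nm F r * g) : g = g (dec 0) (dec 0) • 1 := by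
  have hoff : ∀ x y, x ≠ y → g x y = 0 := by
    intro x y hxy
    obtain ⟨r, h1, h2⟩ := chk_sep x y hxy
    have h3 : g * (Nm F r * Nm F (71 - r)) = (Nm F r * Nm F (71 - r)) * g := by
      rw [← mul_assoc, h r r.2, mul_assoc, h (71 - r) (by omega), ← mul_assoc]
    rw [Nm_mul_opp r.2] at h3
    have h4 := congrFun (congrFun h3 x) y
    rw [Matrix.mul_diagonal, Matrix.diagonal_mul, ind_of_ne h1, ind_of_eq h2] at h4
    simpa using h4.symm
  have hstep : ∀ (r : ℕ), r < 72 → ∀ x : I27, sg r x ≠ 0 → g x x = g (sr r x) (sr r x) := by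
    intro r hr x hx
    have h3 := congrFun (congrFun (h r hr) x) (sr r x)
    rw [Nm_mul_apply, Matrix.mul_apply, Finset.sum_eq_single x] at h3
    · rw [Nm_apply, if_pos rfl, mul_comm] at h3
      exact mul_left_cancel₀ (sg_ne_zero hr hx) h3
    · intro z _ hz
      rw [hoff x z hz.symm, zero_mul]
    · intro h; exact absurd (Finset.mem_univ _) h
  ext x y
  rw [Matrix.smul_apply, smul_eq_mul]
  rcases eq_or_ne x y with rfl | hxy
  · rw [Matrix.one_apply_eq, mul_one]
    obtain ⟨r, h1 | ⟨s, h1, h2, h3⟩⟩ := chk_conn x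
    · rcases h1 with h1 | ⟨h1, h2⟩
      · rw [h1]
      · rw [hstep r r.2 x h1, h2]
    · rw [hstep r r.2 x h1, hstep s s.2 _ h2, h3]
  · rw [Matrix.one_apply_ne hxy, mul_zero, hoff x y hxy]

/-- the kernel of `ad` consists of scalar matrices -/
theorem ker_scalar {g : ↥(Zgrp F)} (hg : ad F g = 1) :
    ∃ c : F, c ^ 3 = 1 ∧ ((g : GL I27 F) : Matrix I27 I27 F) = c • 1 := by
  have h1 := scalar_of_comm (g := ((g : GL I27 F) : Matrix I27 I27 F))
    (fun r hr => comm_B_of_ker hg (Sum.inr ⟨r, hr⟩))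
  set c := ((g : GL I27 F) : Matrix I27 I27 F) (dec 0) (dec 0) with hc
  refine ⟨c, ?_, h1⟩
  have h2 := Cfsg.Agent.ChevalleyStructure.E6Min.Inv.Zgrp_le F g.2
    (Cfsg.Agent.H952.F4.u0 F)
  change cubicT (((g : GL I27 F) : Matrix I27 I27 F).mulVec _) = _ at h2
  rw [h1, Matrix.smul_mulVec, Matrix.one_mulVec, Cfsg.Agent.H952.F4.Jord.N_smul,
    Cfsg.Agent.H952.F4.Jord.N_u0, mul_one] at h2
  exact h2

theorem V_injective {g h : ↥(Zgrp F)} (hgh : ∀ x, V F g x = V F h x) : g = h := by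
  apply Subtype.ext
  apply Units.ext
  ext a b
  have h1 := congrFun (hgh (Pi.single b 1)) a
  rw [V_apply, V_apply, Matrix.mulVec_single_one, Matrix.mulVec_single_one] at h1
  exact h1

/-- the kernel of `ad` has exponent 3 and is central -/
theorem ker_pow {g : ↥(Zgrp F)} (hg : ad F g = 1) : g ^ 3 = 1 ∧ ∀ x : ↥(Zgrp F), x * g = g * x := by
  constructor
  · obtain ⟨c, hc, h⟩ := ker_scalar hg
    apply Subtype.ext
    apply Units.ext
    show (((g : GL I27 F) ^ 3 : GL I27 F) : Matrix I27 I27 F) = 1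
    rw [Units.val_pow_eq_pow_val, h, smul_pow, one_pow, hc, one_smul]
  · have h1 : g ∈ (ad F).ker := hg
    rw [ker_ad, Subgroup.mem_center_iff] at h1
    exact h1

end scalar

theorem exists_frob {F : Type u} {E : Type v} [Field F] [Field E] [Fintype F] [Fintype E] (f : F →+* E) :
    ∃ s : E →+* E, ∀ x, s x = x ^ Fintype.card F := by
  obtain ⟨p, hp⟩ := CharP.exists F
  have hpE : CharP E p := charP_of_injective_ringHom f.injective p
  obtain ⟨n, hpp, hn⟩ := FiniteField.card F p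
  have : Fact p.Prime := ⟨hpp⟩
  exact ⟨iterateFrobenius E p n, fun x => by rw [iterateFrobenius_def, hn]⟩

/-- the two one-parameter groups -/
theorem mat_key {E : Type u} [Field E] {n : Type*} [Fintype n] [DecidableEq n] {N N' : Matrix n n E} (hN : N ≠ 0)
    (h2 : N * N = 0) (h2' : N' * N' = 0) {a b c : E} (h : (1 + a • N') * (1 + b • N) = c • 1) :
    a • N' = -(b • N) := by
  have h3 : (1 + b • N) * (1 - b • N) = 1 := by
    rw [add_mul, mul_sub, mul_sub, one_mul, one_mul, mul_one, smul_mul_smul_comm, h2, smul_zero]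
    abel
  have h4 : 1 + a • N' = c • (1 - b • N) := by
    calc 1 + a • N' = (1 + a • N') * ((1 + b • N) * (1 - b • N)) := by rw [h3, mul_one]
      _ = c • (1 - b • N) := by rw [← mul_assoc, h, smul_mul_assoc, one_mul]
  have h5 : a • N' = (c - 1) • (1 : Matrix n n E) - (c * b) • N := by
    rw [← sub_eq_iff_eq_add'.2 h4.symm]
    rw [smul_sub, smul_smul, sub_smul, one_smul]
    abel
  have h6 : (a • N') * (a • N') = 0 := by rw [smul_mul_smul_comm, h2', smul_zero]
  rw [h5] at h6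
  have h9 : c - 1 = 0 := by
    have h8 := congrArg (fun M => M * N) h6
    simp only [sub_mul, mul_sub, smul_mul_assoc, mul_smul_comm, one_mul, mul_one, h2, smul_zero, sub_zero,
      zero_mul, smul_smul] at h8
    rcases smul_eq_zero.1 h8 with h | h
    · exact mul_self_eq_zero.1 (by linear_combination h)
    · exact absurd h hN
  have h10 : c = 1 := sub_eq_zero.1 h9
  rw [h5, h10, sub_self, zero_smul, zero_sub, one_mul]

/-- **descent of a one-parameter group of root elements** -/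
theorem exists_of_ext {F : Type u} [Field F] [Finite F] {E : Type v} [Field E] [Finite E] (f : F →+* E)
    (hE : Nat.card E = Nat.card F ^ 2) {B : Subgroup ↥(Zgrp F)}
    (h : ∃ n : (I27 → E) →ₗ[E] (I27 → E), n ≠ 0 ∧ (∀ x, n (n x) = 0) ∧
      (∀ t : E, ∃ z : ↥(Zgrp E), ∀ x, V E z x = x + t • n x) ∧
      ∀ b ∈ B, ∀ x, V E (emb f b) (n x) = n (V E (emb f b) x)) :
    ∃ z : ↥(Zgrp F), ad F z ≠ 1 ∧ ∀ b ∈ B, b * z = z * b := by
  have := Fintype.ofFinite F
  have := Fintype.ofFinite E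
  obtain ⟨s, hs⟩ := exists_frob f
  obtain ⟨n, hn0, hn2, hz, hnb⟩ := h
  by_contra hcon
  push Not at hcon
  have hcE : Fintype.card E = Fintype.card F ^ 2 := by
    rwa [Nat.card_eq_fintype_card, Nat.card_eq_fintype_card] at hE
  have hss : s.comp s = RingHom.id E := by
    ext x
    rw [RingHom.comp_apply, hs, hs, ← pow_mul, ← pow_two, ← hcE, FiniteField.pow_card]
    rfl
  have hσσ : ∀ z : ↥(Zgrp E), emb s (emb s z) = z := fun z => by rw [emb_emb, hss, emb_id]
  let C : Subgroup ↥(Zgrp E) := Subgroup.centralizer ((B.map (emb f) : Subgroup ↥(Zgrp E)) : Set ↥(Zgrp E))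
  have memC : ∀ x, x ∈ C ↔ ∀ b ∈ B, emb f b * x = x * emb f b := by
    intro x
    rw [Subgroup.mem_centralizer_iff]
    constructor
    · exact fun h b hb => h _ ⟨b, hb, rfl⟩
    · rintro h _ ⟨b, hb, rfl⟩
      exact h b hb
  have hσC : ∀ x ∈ C, emb s x ∈ C := by
    intro x hx
    rw [memC] at hx ⊢
    intro b hb
    have h1 := congrArg (emb s) (hx b hb)
    rw [map_mul, map_mul, emb_frob f s hs] at h1
    exact h1
  -- fixed elements
  have hfix : ∀ x ∈ C, emb s x = x → ad E x = 1 := by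
    intro x hx hsx
    obtain ⟨z, rfl⟩ := Cfsg.Agent.H65.E6Full.exists_of_emb_eq_all f s hs x hsx
    rw [ad_emb_eq_one_iff]
    by_contra h1
    obtain ⟨b, hb, hne⟩ := hcon z h1
    apply hne
    apply emb_injective f
    rw [map_mul, map_mul]
    exact (memC _).1 hx b hb
  have hfix2 : ∀ x ∈ C, ad E (emb s x) = ad E x → ad E x = 1 := by
    intro x hx h1
    set c := x⁻¹ * emb s x with hc
    have hc1 : ad E c = 1 := by rw [hc, map_mul, map_inv, h1, inv_mul_cancel]
    obtain ⟨hc3, hcc⟩ := ker_pow hc1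
    have hsx : emb s x = x * c := by rw [hc, mul_inv_cancel_left]
    have hsc : emb s c = c⁻¹ := by
      have h2 := hσσ x
      rw [hsx, map_mul, hsx, mul_assoc] at h2
      have h3 : c * emb s c = 1 := mul_left_cancel (h2.trans (mul_one x).symm)
      exact (inv_eq_of_mul_eq_one_right h3).symm
    have hcC : c ∈ C := by
      rw [memC]
      exact fun b _ => hcc _
    have h4 := hfix (x * c⁻¹) (mul_mem hx (inv_mem hcC)) (by
      rw [map_mul, map_inv, hsx, hsc, inv_inv]
      have h5 : c * c = c⁻¹ := by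
        rw [eq_inv_iff_mul_eq_one, ← pow_two, ← pow_succ, hc3]
      rw [mul_assoc, h5])
    rw [map_mul, map_inv, hc1, inv_one, mul_one] at h4
    exact h4
  -- the quotient
  let a : C →* ↥(chevE6.group E) := (ad E).comp C.subtype
  let ψ : C →* C := ((emb s).comp C.subtype).codRestrict C fun x => hσC x x.2
  have hK : a.ker ≤ a.ker.comap ψ := by
    intro x hx
    rw [Subgroup.mem_comap, MonoidHom.mem_ker]
    exact (ad_emb_eq_one_iff s (x : ↥(Zgrp E))).2 (MonoidHom.mem_ker.1 hx)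
  let φ : (C ⧸ a.ker) →* (C ⧸ a.ker) := QuotientGroup.map a.ker a.ker ψ hK
  have hφ : MonoidHom.FixedPointFree φ := by
    intro q hq
    induction q using QuotientGroup.induction_on with
    | H x =>
      have h1 : (QuotientGroup.mk (ψ x) : C ⧸ a.ker) = QuotientGroup.mk x := hq
      rw [QuotientGroup.eq] at h1
      have h2 : ad E ((emb s (x : ↥(Zgrp E)))⁻¹ * x) = 1 := h1
      rw [map_mul, map_inv, inv_mul_eq_one] at h2
      exact (QuotientGroup.eq_one_iff x).2 (hfix2 x x.2 h2)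
  have hφ2 : φ^[2] = _root_.id := by
    funext q
    induction q using QuotientGroup.induction_on with
    | H x =>
      show (QuotientGroup.mk (ψ (ψ x)) : C ⧸ a.ker) = QuotientGroup.mk x
      congr 1
      exact Subtype.ext (hσσ x)
  have hfin : Finite ↥(Zgrp E) := inferInstance
  have hfinq : Finite (C ⧸ a.ker) := inferInstance
  have hinv := hφ.coe_eq_inv_of_sq_eq_one hφ2
  have key : ∀ x ∈ C, ad E (emb s x * x) = 1 := by
    intro x hx
    have h1 := congrFun hinv (QuotientGroup.mk (⟨x, hx⟩ : C))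
    have h2 : (QuotientGroup.mk (ψ ⟨x, hx⟩) : C ⧸ a.ker) = (QuotientGroup.mk (⟨x, hx⟩ : C))⁻¹ := h1
    rw [eq_inv_iff_mul_eq_one, ← QuotientGroup.mk_mul] at h2
    exact (QuotientGroup.eq_one_iff (ψ ⟨x, hx⟩ * ⟨x, hx⟩)).1 h2
  -- the one-parameter group
  choose z hzz using hz
  let N : Matrix I27 I27 E := LinearMap.toMatrix' n
  have hNn : ∀ x, N.mulVec x = n x := fun x => LinearMap.toMatrix'_mulVec n x
  have hN0 : N ≠ 0 := fun h0 => hn0 (LinearMap.toMatrix'.injective (h0.trans (map_zero _).symm))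
  have hN2 : N * N = 0 := by
    have h1 : n.comp n = 0 := LinearMap.ext hn2
    have h2 : LinearMap.toMatrix' (n.comp n) = N * N := LinearMap.toMatrix'_comp n n
    rw [← h2, h1, map_zero]
  have hzm : ∀ t, ((z t : GL I27 E) : Matrix I27 I27 E) = 1 + t • N := by
    intro t
    apply Matrix.toLin'.injective
    refine LinearMap.ext fun x => ?_
    rw [Matrix.toLin'_apply, Matrix.toLin'_apply, Matrix.add_mulVec, Matrix.one_mulVec, Matrix.smul_mulVec, hNn]
    exact hzz t x
  have hzC : ∀ t, z t ∈ C := by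
    intro t
    rw [memC]
    intro b hb
    apply V_injective
    intro x
    rw [map_mul, map_mul]
    show V E (emb f b) (V E (z t) x) = V E (z t) (V E (emb f b) x)
    rw [hzz, hzz, map_add, map_smul, hnb b hb]
  let N' : Matrix I27 I27 E := N.map s
  have hN2' : N' * N' = 0 := by
    show N.map s * N.map s = 0
    rw [← Matrix.map_mul, hN2]
    ext i j
    simp
  have hst : ∀ t, s t • N' = -(t • N) := by
    intro t
    obtain ⟨c, -, hc⟩ := ker_scalar (key (z t) (hzC t))
    have h1 : ((emb s (z t) * z t : ↥(Zgrp E)) : GL I27 E) = (emb s (z t) : GL I27 E) * (z t : GL I27 E) := rfl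
    rw [h1, Units.val_mul, coe_emb, hzm] at hc
    have h2 : (1 + t • N).map s = 1 + s t • N' := by
      ext i j
      simp only [Matrix.map_apply, Matrix.add_apply, Matrix.smul_apply, smul_eq_mul, map_add, map_mul,
        Matrix.one_apply, apply_ite s, map_one, map_zero]
      rfl
    rw [h2] at hc
    exact mat_key hN0 hN2 hN2' hc
  have hN' : N' = -N := by
    have h1 := hst 1
    rwa [map_one, one_smul, one_smul] at h1
  have hsid : ∀ t, s t = t := by
    intro t
    have h1 := hst t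
    rw [hN', smul_neg, neg_inj] at h1
    have h2 : (s t - t) • N = 0 := by rw [sub_smul, h1, sub_self]
    exact sub_eq_zero.1 ((smul_eq_zero.1 h2).resolve_right hN0)
  have hsurj : Function.Surjective f := fun x => mem_range_of_pow f (by rw [← hs, hsid])
  have h1 := Fintype.card_le_of_surjective f hsurj
  have h2 : 1 < Fintype.card F := Fintype.one_lt_card
  rw [hcE] at h1
  nlinarith

/-- `Sing.three_ext` from `three_root` over the extension field -/
theorem three_ext_of {F : Type u} [Field F] [Finite F] {E : Type u} [Field E] [Finite E]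
    (hroot : ∀ (ρ : Representation E ↥(Zgrp E) (I27 → E)) (_ : ρ = V E ∨ ρ = V' E) {B : Subgroup ↥(Zgrp E)}
      (_ : ∀ θ : ↥B →* GL (Fin 2) E, ∀ b, θ b = 1) {W : Submodule E (I27 → E)} (_ : finrank E ↥W = 3) (_ : TS W)
      (_ : ∀ b ∈ B, ∀ w ∈ W, ρ b w ∈ W), ∃ n : (I27 → E) →ₗ[E] (I27 → E), n ≠ 0 ∧ (∀ x, n (n x) = 0) ∧
        (∀ t : E, ∃ z : ↥(Zgrp E), ∀ x, V E z x = x + t • n x) ∧ ∀ b ∈ B, ∀ x, V E b (n x) = n (V E b x))
    (f : F →+* E) (hE : Nat.card E = Nat.card F ^ 2) (j : ↥(Zgrp F) →* ↥(Zgrp E))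
    (hj : ∀ (g : ↥(Zgrp F)) (x : I27 → F), V E (j g) (fun i => f (x i)) = fun i => f (V F g x i))
    (ρ : Representation E ↥(Zgrp E) (I27 → E)) (hρ : ρ = V E ∨ ρ = V' E) {B : Subgroup ↥(Zgrp F)}
    (hB : ∀ θ : ↥B →* GL (Fin 2) E, ∀ b, θ b = 1) {W : Submodule E (I27 → E)} (h3 : finrank E ↥W = 3) (hW : TS W)
    (hst : ∀ b ∈ B, ∀ w ∈ W, ρ (j b) w ∈ W) : ∃ z : ↥(Zgrp F), ad F z ≠ 1 ∧ ∀ b ∈ B, b * z = z * b := by
  have hj' := Cfsg.Agent.H163.E6.Sing.emb_unique f j hj
  subst hj'
  obtain ⟨n, h1, h2, h4, h5⟩ := hroot ρ hρ (B := B.map (emb f)) (fun θ b => by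
    obtain ⟨b, c, hc, rfl⟩ := b
    exact hB (θ.comp ((emb f).subgroupMap B)) ⟨c, hc⟩) h3 hW (by
    rintro _ ⟨b, hb, rfl⟩
    exact hst b hb)
  exact exists_of_ext f hE ⟨n, h1, h2, h4, fun b hb => h5 _ ⟨b, hb, rfl⟩⟩

end Cfsg.Agent.H65.E6Ext
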