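import Mathlib
import Cfsg.Agent.H203.E6.Three
import Cfsg.Agent.H65.E6Ext

/-!
# S5927, S5928: one-parameter groups of root elements commuting with the stabiliser of a totally singular 3-space or
6-space (helper65, from helper203's theorems), and `Sing.three_ext`
-/

set_option autoImplicit false

namespace Cfsg.Agent.H65.E6Root

open Cfsg.Lie Cfsg.Agent.ChevalleyStructure Cfsg.Agent.ChevalleyStructure.E6Form.Cubic
  Cfsg.Agent.ChevalleyStructure.E6Form.Table Cfsg.Agent.ChevalleyStructure.E6Form.Elim Module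
open Cfsg.Agent.ChevalleyStructure.E6Min.Basic (Zgrp zM zU)
open Cfsg.Agent.ChevalleyStructure.E6Min.Adjoint (ad ker_ad)
open Cfsg.Agent.H203.E6 Cfsg.Agent.H163.E6
open Cfsg.Agent.H184.GraphE6 (gU PU PU_sq dual dual_dual dual_mem_Zgrp coe_dual)
open scoped commutatorElement Matrix

universe u

variable {F : Type u} [Field F]

/-- `N` is the direction of a one-parameter subgroup of `Zgrp F` -/
structure Dir (N : Matrix I27 I27 F) : Prop where
  ne : N ≠ 0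
  sq : N * N = 0
  mem : ∀ t : F, ∃ g ∈ Zgrp F, (g : Matrix I27 I27 F) = 1 + t • N

theorem nMat_sq (r : ℕ) : nMat F r * nMat F r = 0 := by
  apply Matrix.toLin'.injective
  refine LinearMap.ext fun v => ?_
  rw [Matrix.toLin'_apply, ← Matrix.mulVec_mulVec, nMat_mulVec, nMat_mulVec, nv_nv, map_zero, LinearMap.zero_apply]

/-- the matrix `g⁻¹ N_0 g` -/
def cN (g : GL I27 F) : Matrix I27 I27 F :=
  ((g⁻¹ : GL I27 F) : Matrix I27 I27 F) * nMat F 0 * (g : Matrix I27 I27 F)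

theorem val_mul_inv (g : GL I27 F) : (g : Matrix I27 I27 F) * ((g⁻¹ : GL I27 F) : Matrix I27 I27 F) = 1 := by
  rw [← Units.val_mul, mul_inv_cancel, Units.val_one]

theorem val_inv_mul (g : GL I27 F) : ((g⁻¹ : GL I27 F) : Matrix I27 I27 F) * (g : Matrix I27 I27 F) = 1 := by
  rw [← Units.val_mul, inv_mul_cancel, Units.val_one]

theorem cN_dir {g : GL I27 F} (hg : g ∈ Zgrp F) : Dir (cN g) where
  ne h := by
    have h1 : nMat F 0 = 0 := by
      have : nMat F 0 = (g : Matrix I27 I27 F) * cN g * ((g⁻¹ : GL I27 F) : Matrix I27 I27 F) := by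
        rw [cN, ← mul_assoc, ← mul_assoc, val_mul_inv, one_mul, mul_assoc, val_mul_inv, mul_one]
      rw [this, h, mul_zero, zero_mul]
    have h2 := (nMat_entries (F := F)).1
    rw [h1, Matrix.zero_apply] at h2
    exact absurd h2.symm (neg_ne_zero.2 one_ne_zero)
  sq := by
    rw [cN, mul_assoc (_ * nMat F 0), ← mul_assoc (g : Matrix I27 I27 F), ← mul_assoc (g : Matrix I27 I27 F), val_mul_inv,
      one_mul, ← mul_assoc, mul_assoc _ (nMat F 0) (nMat F 0), nMat_sq, mul_zero, zero_mul]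
  mem t := by
    refine ⟨g⁻¹ * zG 0 t * g, mul_mem (mul_mem (inv_mem hg) (zG_mem (by norm_num) t)) hg, ?_⟩
    rw [Units.val_mul, Units.val_mul, coe_zG, zMat, mul_add, add_mul, mul_one, val_inv_mul, Matrix.mul_smul,
      Matrix.smul_mul, cN]

/-- commuting of `g b g⁻¹` with `N_0` -/
theorem comm_cN {g b : GL I27 F} (h : ((g * b * g⁻¹ : GL I27 F) : Matrix I27 I27 F) * nMat F 0 =
    nMat F 0 * ((g * b * g⁻¹ : GL I27 F) : Matrix I27 I27 F)) :
    (b : Matrix I27 I27 F) * cN g = cN g * (b : Matrix I27 I27 F) := by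
  have h1 : (b : Matrix I27 I27 F) * ((g⁻¹ : GL I27 F) : Matrix I27 I27 F) =
      ((g⁻¹ : GL I27 F) : Matrix I27 I27 F) * ((g * b * g⁻¹ : GL I27 F) : Matrix I27 I27 F) := by
    rw [← Units.val_mul, ← Units.val_mul]; congr 1; group
  have h2 : (g : Matrix I27 I27 F) * (b : Matrix I27 I27 F) =
      ((g * b * g⁻¹ : GL I27 F) : Matrix I27 I27 F) * (g : Matrix I27 I27 F) := by
    rw [← Units.val_mul, ← Units.val_mul]; congr 1; group
  rw [cN, ← mul_assoc, ← mul_assoc, h1, mul_assoc _ _ (nMat F 0), h, mul_assoc _ (g : Matrix I27 I27 F), h2]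
  simp only [mul_assoc]

theorem root3_core {B : Subgroup ↥(Zgrp F)} (hB : ∀ θ : ↥B →* GL (Fin 2) F, ∀ b, θ b = 1)
    {W : Submodule F (I27 → F)} (h3 : finrank F ↥W = 3) (hW : Cfsg.Agent.H203.E6.TS W)
    (hst : ∀ b ∈ B, ∀ w ∈ W, act (b : GL I27 F) w ∈ W) :
    ∃ N : Matrix I27 I27 F, Dir N ∧
      ∀ b ∈ B, ((b : GL I27 F) : Matrix I27 I27 F) * N = N * ((b : GL I27 F) : Matrix I27 I27 F) := by
  obtain ⟨g, hg, -, h⟩ := exists_two hB h3 hW hst
  refine ⟨cN g, cN_dir hg, fun b hb => comm_cN ?_⟩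
  have h1 := h b hb 0
  rw [Fin.val_zero] at h1
  conv_rhs => rw [← h1]
  rw [cj, mul_assoc _ _ ((g * (b : GL I27 F) * g⁻¹ : GL I27 F) : Matrix I27 I27 F), val_inv_mul, mul_one]

theorem root6_core {B : Subgroup ↥(Zgrp F)} (hB : ⁅B, B⁆ = B) {W : Submodule F (I27 → F)} (h6 : finrank F ↥W = 6)
    (hW : Cfsg.Agent.H203.E6.TS W) (hst : ∀ b ∈ B, ∀ w ∈ W, act (b : GL I27 F) w ∈ W) :
    ∃ N : Matrix I27 I27 F, Dir N ∧
      ∀ b ∈ B, ((b : GL I27 F) : Matrix I27 I27 F) * N = N * ((b : GL I27 F) : Matrix I27 I27 F) := by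
  obtain ⟨g, hg, hgW⟩ := exists_mp_eq hW h6
  have hstab : ∀ b ∈ B, mp (g * (b : GL I27 F) * g⁻¹) (W6 F) = W6 F := by
    intro b hb
    have h1 : mp (b : GL I27 F) W = W := by
      ext x
      rw [mem_mp]
      constructor
      · intro h
        have := hst b hb _ h
        rwa [act_act_inv] at this
      · intro h
        have := hst b⁻¹ (inv_mem hb) _ h
        exact this
    rw [← hgW, ← mp_mul, inv_mul_cancel_right, mp_mul, h1]
  have hconj : ∀ b ∈ B, ∃ c : F, c ≠ 0 ∧ ((g * (b : GL I27 F) * g⁻¹ : GL I27 F) : Matrix I27 I27 F) * nMat F 0 =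
      c • (nMat F 0 * ((g * (b : GL I27 F) * g⁻¹ : GL I27 F) : Matrix I27 I27 F)) := fun b hb =>
    conj_root (mul_mem (mul_mem hg b.2) (inv_mem hg)) (hstab b hb)
  refine ⟨cN g, cN_dir hg, fun b hb => ?_⟩
  -- the centralizer of the matrix
  let C : Subgroup ↥(Zgrp F) :=
    { carrier := {b | ((b : GL I27 F) : Matrix I27 I27 F) * cN g = cN g * ((b : GL I27 F) : Matrix I27 I27 F)}
      one_mem' := by
        change (((1 : ↥(Zgrp F)) : GL I27 F) : Matrix I27 I27 F) * cN g = cN g * (((1 : ↥(Zgrp F)) : GL I27 F) : Matrix I27 I27 F)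
        rw [Subgroup.coe_one, Units.val_one, one_mul, mul_one]
      mul_mem' := by
        intro a b ha hb
        change ((a * b : GL I27 F) : Matrix I27 I27 F) * cN g = cN g * ((a * b : GL I27 F) : Matrix I27 I27 F)
        rw [Units.val_mul, mul_assoc, hb, ← mul_assoc, ha, mul_assoc]
      inv_mem' := by
        intro a ha
        change (((a : GL I27 F)⁻¹ : GL I27 F) : Matrix I27 I27 F) * cN g =
          cN g * (((a : GL I27 F)⁻¹ : GL I27 F) : Matrix I27 I27 F)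
        have ha' : ((a : GL I27 F) : Matrix I27 I27 F) * cN g = cN g * ((a : GL I27 F) : Matrix I27 I27 F) := ha
        calc (((a : GL I27 F)⁻¹ : GL I27 F) : Matrix I27 I27 F) * cN g
            = (((a : GL I27 F)⁻¹ : GL I27 F) : Matrix I27 I27 F) * (cN g * ((a : GL I27 F) : Matrix I27 I27 F)) *
              (((a : GL I27 F)⁻¹ : GL I27 F) : Matrix I27 I27 F) := by
              rw [mul_assoc, mul_assoc, val_mul_inv, mul_one]
          _ = cN g * (((a : GL I27 F)⁻¹ : GL I27 F) : Matrix I27 I27 F) := by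
              rw [← ha', ← mul_assoc, val_inv_mul, one_mul] }
  have hle : ⁅B, B⁆ ≤ C := by
    rw [Subgroup.commutator_le]
    intro a ha b hb
    change ((((⁅a, b⁆ : ↥(Zgrp F)) : GL I27 F) : Matrix I27 I27 F)) * cN g =
      cN g * (((⁅a, b⁆ : ↥(Zgrp F)) : GL I27 F) : Matrix I27 I27 F)
    apply comm_cN
    obtain ⟨c, hc, h1⟩ := hconj a ha
    obtain ⟨d, hd, h2⟩ := hconj b hb
    have := commutator_comm hc hd h1 h2
    have h3 : g * ((⁅a, b⁆ : ↥(Zgrp F)) : GL I27 F) * g⁻¹ = ⁅g * (a : GL I27 F) * g⁻¹, g * (b : GL I27 F) * g⁻¹⁆ := by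
      rw [commutatorElement_def, commutatorElement_def]
      simp only [Subgroup.coe_mul, Subgroup.coe_inv]
      group
    rw [h3]
    exact this
  rw [hB] at hle
  exact hle hb

/-- the transposed direction -/
theorem Dir.transpose {N : Matrix I27 I27 F} (hN : Dir N) : Dir Nᵀ where
  ne h := hN.ne (by rw [← Matrix.transpose_transpose N, h, Matrix.transpose_zero])
  sq := by rw [← Matrix.transpose_mul, hN.sq, Matrix.transpose_zero]
  mem t := by
    obtain ⟨g, hg, h⟩ := hN.mem t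
    refine ⟨dual g⁻¹, dual_mem_Zgrp (inv_mem hg), ?_⟩
    rw [coe_dual, inv_inv, h, Matrix.transpose_add, Matrix.transpose_one, Matrix.transpose_smul]

/-- the automorphism `g ↦ g⁻ᵀ` -/
def δ (F : Type u) [Field F] : ↥(Zgrp F) →* ↥(Zgrp F) where
  toFun g := ⟨dual (g : GL I27 F), dual_mem_Zgrp g.2⟩
  map_one' := Subtype.ext (map_one dual)
  map_mul' _ _ := Subtype.ext (map_mul dual _ _)

/-- from the dual module to the module -/
theorem to_dual {B : Subgroup ↥(Zgrp F)} {W : Submodule F (I27 → F)} (hW : Cfsg.Agent.H163.E6.TS W)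
    (hst : ∀ b ∈ B, ∀ w ∈ W, V' F b w ∈ W) : Cfsg.Agent.H203.E6.TS (mp (PU F) W) ∧
      ∀ b ∈ B.map (δ F), ∀ w ∈ mp (PU F) W, act (b : GL I27 F) w ∈ mp (PU F) W := by
  constructor
  · intro x hx
    rw [mem_mp] at hx
    rw [singular_iff]
    have h1 : x = act (PU F) (act (PU F)⁻¹ x) := by rw [← act_mul, mul_inv_cancel, act_one]
    rw [h1, sh_PU, hW.1 _ hx]
    exact Matrix.mulVec_zero _
  · rintro _ ⟨b, hb, rfl⟩ w hw
    rw [mem_mp] at hw ⊢
    have h1 := hst b hb _ hw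
    have hP : (PU F)⁻¹ = PU F := inv_eq_of_mul_eq_one_left PU_sq
    rw [V'_apply] at h1
    change act (gU (b : GL I27 F)) (act (PU F)⁻¹ w) ∈ W at h1
    change act (PU F)⁻¹ (act (dual (b : GL I27 F)) w) ∈ W
    rw [gU, ← act_mul, mul_assoc, mul_inv_cancel, mul_one, act_mul] at h1
    rwa [hP]

theorem comm_transpose {B : Subgroup ↥(Zgrp F)} {N : Matrix I27 I27 F}
    (h : ∀ b ∈ B.map (δ F), ((b : GL I27 F) : Matrix I27 I27 F) * N = N * ((b : GL I27 F) : Matrix I27 I27 F)) :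
    ∀ b ∈ B, ((b : GL I27 F) : Matrix I27 I27 F) * Nᵀ = Nᵀ * ((b : GL I27 F) : Matrix I27 I27 F) := by
  intro b hb
  have h1 := h (δ F b⁻¹) ⟨b⁻¹, inv_mem hb, rfl⟩
  change ((dual ((b : GL I27 F)⁻¹) : GL I27 F) : Matrix I27 I27 F) * N =
    N * ((dual ((b : GL I27 F)⁻¹) : GL I27 F) : Matrix I27 I27 F) at h1
  rw [coe_dual, inv_inv] at h1
  have h2 := congrArg Matrix.transpose h1
  rw [Matrix.transpose_mul, Matrix.transpose_mul, Matrix.transpose_transpose] at h2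
  exact h2.symm

/-- SING3, strong form. -/
theorem root3 (ρ : Representation F ↥(Zgrp F) (I27 → F)) (hρ : ρ = V F ∨ ρ = V' F) {B : Subgroup ↥(Zgrp F)}
    (hB : ∀ θ : ↥B →* GL (Fin 2) F, ∀ b, θ b = 1) {W : Submodule F (I27 → F)} (h3 : finrank F ↥W = 3)
    (hW : Cfsg.Agent.H163.E6.TS W) (hst : ∀ b ∈ B, ∀ w ∈ W, ρ b w ∈ W) :
    ∃ N : Matrix I27 I27 F, Dir N ∧
      ∀ b ∈ B, ((b : GL I27 F) : Matrix I27 I27 F) * N = N * ((b : GL I27 F) : Matrix I27 I27 F) := by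
  rcases hρ with rfl | rfl
  · exact root3_core hB h3 (TS_of hW) hst
  · obtain ⟨h1, h2⟩ := to_dual hW hst
    obtain ⟨N, hN, h⟩ := root3_core (B := B.map (δ F)) (fun θ b => by
      obtain ⟨_, b, hb, rfl⟩ := b
      exact hB (θ.comp ((δ F).subgroupMap B)) ⟨b, hb⟩) (by rw [finrank_mp, h3]) h1 h2
    exact ⟨Nᵀ, hN.transpose, comm_transpose h⟩

/-- SING6, strong form. -/
theorem root6 (ρ : Representation F ↥(Zgrp F) (I27 → F)) (hρ : ρ = V F ∨ ρ = V' F) {B : Subgroup ↥(Zgrp F)}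
    (hB : ⁅B, B⁆ = B) {W : Submodule F (I27 → F)} (h6 : finrank F ↥W = 6)
    (hW : Cfsg.Agent.H163.E6.TS W) (hst : ∀ b ∈ B, ∀ w ∈ W, ρ b w ∈ W) :
    ∃ N : Matrix I27 I27 F, Dir N ∧
      ∀ b ∈ B, ((b : GL I27 F) : Matrix I27 I27 F) * N = N * ((b : GL I27 F) : Matrix I27 I27 F) := by
  rcases hρ with rfl | rfl
  · exact root6_core hB h6 (TS_of hW) hst
  · obtain ⟨h1, h2⟩ := to_dual hW hst
    obtain ⟨N, hN, h⟩ := root6_core (B := B.map (δ F)) (by rw [← Subgroup.map_commutator, hB])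
      (by rw [finrank_mp, h6]) h1 h2
    exact ⟨Nᵀ, hN.transpose, comm_transpose h⟩

/-- the linear map of a direction -/
theorem Dir.exists_lin {N : Matrix I27 I27 F} (hN : Dir N) {B : Subgroup ↥(Zgrp F)}
    (hB : ∀ b ∈ B, ((b : GL I27 F) : Matrix I27 I27 F) * N = N * ((b : GL I27 F) : Matrix I27 I27 F)) :
    ∃ n : (I27 → F) →ₗ[F] (I27 → F), n ≠ 0 ∧ (∀ x, n (n x) = 0) ∧
      (∀ t : F, ∃ z : ↥(Zgrp F), ∀ x, V F z x = x + t • n x) ∧ ∀ b ∈ B, ∀ x, V F b (n x) = n (V F b x) := by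
  refine ⟨Matrix.toLin' N, ?_, ?_, ?_, ?_⟩
  · intro h
    exact hN.ne (Matrix.toLin'.map_eq_zero_iff.1 h)
  · intro x
    rw [Matrix.toLin'_apply, Matrix.toLin'_apply, Matrix.mulVec_mulVec, hN.sq, Matrix.zero_mulVec]
  · intro t
    obtain ⟨g, hg, h⟩ := hN.mem t
    refine ⟨⟨g, hg⟩, fun x => ?_⟩
    rw [V_apply, h, Matrix.add_mulVec, Matrix.one_mulVec, Matrix.smul_mulVec, Matrix.toLin'_apply]
  · intro b hb x
    rw [V_apply, V_apply, Matrix.toLin'_apply, Matrix.toLin'_apply, Matrix.mulVec_mulVec, Matrix.mulVec_mulVec, hB b hb]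

/-- SING3, strong form. -/
theorem three_root (ρ : Representation F ↥(Zgrp F) (I27 → F)) (hρ : ρ = V F ∨ ρ = V' F) {B : Subgroup ↥(Zgrp F)}
    (hB : ∀ θ : ↥B →* GL (Fin 2) F, ∀ b, θ b = 1) {W : Submodule F (I27 → F)} (h3 : finrank F ↥W = 3)
    (hW : Cfsg.Agent.H163.E6.TS W) (hst : ∀ b ∈ B, ∀ w ∈ W, ρ b w ∈ W) :
    ∃ n : (I27 → F) →ₗ[F] (I27 → F), n ≠ 0 ∧ (∀ x, n (n x) = 0) ∧
      (∀ t : F, ∃ z : ↥(Zgrp F), ∀ x, V F z x = x + t • n x) ∧ ∀ b ∈ B, ∀ x, V F b (n x) = n (V F b x) := by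
  obtain ⟨N, hN, h⟩ := root3 ρ hρ hB h3 hW hst
  exact hN.exists_lin h

/-- SING6, strong form. -/
theorem six_root (ρ : Representation F ↥(Zgrp F) (I27 → F)) (hρ : ρ = V F ∨ ρ = V' F) {B : Subgroup ↥(Zgrp F)}
    (hB : ⁅B, B⁆ = B) {W : Submodule F (I27 → F)} (h6 : finrank F ↥W = 6)
    (hW : Cfsg.Agent.H163.E6.TS W) (hst : ∀ b ∈ B, ∀ w ∈ W, ρ b w ∈ W) :
    ∃ n : (I27 → F) →ₗ[F] (I27 → F), n ≠ 0 ∧ (∀ x, n (n x) = 0) ∧
      (∀ t : F, ∃ z : ↥(Zgrp F), ∀ x, V F z x = x + t • n x) ∧ ∀ b ∈ B, ∀ x, V F b (n x) = n (V F b x) := by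
  obtain ⟨N, hN, h⟩ := root6 ρ hρ hB h6 hW hst
  exact hN.exists_lin h

end Cfsg.Agent.H65.E6Root

namespace Cfsg.Agent.H163.E6.Sing

open Cfsg.Lie Module
open Cfsg.Agent.ChevalleyStructure.E6Min.Basic (Zgrp)
open Cfsg.Agent.ChevalleyStructure.E6Min.Adjoint (ad)

universe u

variable {F : Type u} [Field F]

/-- SING3 over the quadratic extension -/
theorem three_ext [Finite F] {E : Type u} [Field E] [Finite E] (f : F →+* E) (hE : Nat.card E = Nat.card F ^ 2)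
    (j : ↥(Zgrp F) →* ↥(Zgrp E)) (hj : ∀ (g : ↥(Zgrp F)) (x : I27 → F),
      V E (j g) (fun i => f (x i)) = fun i => f (V F g x i))
    (ρ : Representation E ↥(Zgrp E) (I27 → E)) (hρ : ρ = V E ∨ ρ = V' E) {B : Subgroup ↥(Zgrp F)}
    (hB : ∀ θ : ↥B →* GL (Fin 2) E, ∀ b, θ b = 1) {W : Submodule E (I27 → E)} (h3 : finrank E ↥W = 3) (hW : TS W)
    (hst : ∀ b ∈ B, ∀ w ∈ W, ρ (j b) w ∈ W) : ∃ z : ↥(Zgrp F), ad F z ≠ 1 ∧ ∀ b ∈ B, b * z = z * b :=
  Cfsg.Agent.H65.E6Ext.three_ext_of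
    (fun ρ hρ _ hB _ h3 hW hst => Cfsg.Agent.H65.E6Root.three_root ρ hρ hB h3 hW hst) f hE j hj ρ hρ hB h3 hW hst

end Cfsg.Agent.H163.E6.Sing
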