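import Cfsg.Agent.H65.Laced
import Cfsg.Agent.KFacts.Mult.LacedE

/-!
# The signed simply laced root system of `D.group K`, any field `K` (helper65)

`D` one of the simply laced tabulated data. `ssys : SSys (Bf A) {x | IsRoot cs h x} N (eg hp.inList l)`.
-/

set_option autoImplicit false
set_option linter.unusedSectionVars false

namespace Cfsg.Agent.H65.ChevSys

open CoxeterSystem Cfsg.Agent.ChevalleyStructure.CoxeterGeom Cfsg.Agent.Tits.Roots Cfsg.Agent.Tits.Core
  Cfsg.Agent.Tits.RootComb Cfsg.Agent.Nodes.Comb Cfsg.Agent.Nodes.Reps Cfsg.Agent.Nodes.BNOf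
  Cfsg.Agent.OddHalf.SL.Index Cfsg.Agent.OddHalf.SL Cfsg.Agent.KFacts
open Cfsg.Lie Cfsg.Agent.ChevalleyStructure.RootVecTab Cfsg.Agent.ChevalleyStructure.RootVec
  Cfsg.Agent.ChevalleyStructure.Elts Cfsg.Agent.ChevalleyStructure Cfsg.Agent.Nodes.RGDChev
  Cfsg.Agent.ChevalleyStructure.CoxeterGeomTypes
open Cfsg.Agent.H65.Laced
open scoped commutatorElement

universe u

variable {D : ChevalleyDatum} {l : ℕ} {M : CoxeterMatrix (Fin l)} {K : Type u} [Field K]

/-- The sum of the coefficients of the commutator terms. -/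
def tsum (D : ChevalleyDatum) (r s : ℕ) : ℤ := ((D.commTerms r s).map fun c => c.2.1).sum

theorem tsum_def (D : ChevalleyDatum) (r s : ℕ) : tsum D r s = ((D.commTerms r s).map fun c => c.2.1).sum := rfl

/-- Check: the coefficient for `(p_i, r)`, `⟨r, p_i^∨⟩ = -1`, is `±1`. -/
def rowPM (D : ChevalleyDatum) (i : ℕ) : Bool :=
  (List.range D.nroots).all fun r => decide (D.cartan i r ≠ -1) || (tsum D (D.simple i) r).natAbs == 1

theorem rowPM_E6 : (List.range 6).all (rowPM chevE6) = true := by decide +kernel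
theorem rowPM_E7 : (List.range 7).all (rowPM chevE7) = true := by decide +kernel
theorem rowPM_E8 : (List.range 8).all (rowPM chevE8) = true := by decide +kernel
theorem rowPM_D4 : (List.range 4).all (rowPM chevD4) = true := by decide +kernel

/-- evaluation of a word of commutator terms with one root and exponents `(1, 1)`. -/
theorem word_eval {Γ : Type*} [Group Γ] (z : ℕ → K → Γ) {k : ℕ} (hadd : ∀ a b, z k (a + b) = z k a * z k b)
    (L : List (ℕ × ℤ × ℕ × ℕ)) (hL : ∀ c ∈ L, c.1 = k ∧ c.2.2 = (1, 1)) (t u : K) :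
    ((L.map fun c => (c.1, (c.2.1 : K) * (-t) ^ c.2.2.1 * u ^ c.2.2.2)).map fun p => z p.1 p.2).prod =
      z k ((((L.map fun c => c.2.1).sum : ℤ) : K) * (-t * u)) := by
  have h0 : z k 0 = 1 := by
    have h1 := hadd 0 0
    rw [add_zero] at h1
    exact left_eq_mul.1 h1
  induction L with
  | nil => simp [h0]
  | cons c L ih =>
    have ih := ih fun c hc => hL c (List.mem_cons_of_mem _ hc)
    obtain ⟨h1, h2⟩ := hL c List.mem_cons_self
    rw [List.map_cons, List.map_cons, List.prod_cons, ih, List.map_cons, List.sum_cons, Int.cast_add, add_mul, hadd]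
    congr 1
    show z c.1 ((c.2.1 : K) * (-t) ^ c.2.2.1 * u ^ c.2.2.2) = _
    rw [h1, h2]
    show z k ((c.2.1 : K) * (-t) ^ 1 * u ^ 1) = _
    rw [pow_one, pow_one, mul_assoc]

section

variable (hp : IsType D l M) {W : Type*} [Group W] (cs : CoxeterSystem M W)
  (h4 : ∀ i j, M i j ≠ 4) (h6 : ∀ i j, M i j ≠ 6)

include hp cs h4 h6 in
/-- The terms of the commutator word. -/
theorem terms {r s : ℕ} (hr : r < D.nroots) (hs : s < D.nroots) (_hsr : s ≠ r) (hsn : s ≠ D.neg r)
    {c : ℕ × ℤ × ℕ × ℕ} (hc : c ∈ D.commTerms r s) :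
    Bf (cartanOf D l) (vec D l r) (vec D l s) = -1 ∧ c.1 < D.nroots ∧ vec D l c.1 = vec D l r + vec D l s ∧
      c.2.2 = (1, 1) := by
  have : Finite W := finite_W hp cs
  have hR := roots cs hp.isCartan h4 h6
  obtain ⟨v, C, i, j⟩ := c
  obtain ⟨hv1, -, -, hi, hj, hvec⟩ := commTerms_rt hp.checked hc
  have hv : vec D l v = (i : ℤ) • vec D l r + (j : ℤ) • vec D l s := by
    funext k
    rw [vec_apply, hvec, Pi.add_apply, Pi.smul_apply, Pi.smul_apply, smul_eq_mul, smul_eq_mul, vec_apply, vec_apply]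
  have mr : IsRoot cs hp.isCartan (vec D l r) := isRoot_vec hp cs hr
  have ms : IsRoot cs hp.isCartan (vec D l s) := isRoot_vec hp cs hs
  have mv : IsRoot cs hp.isCartan (vec D l v) := isRoot_vec hp cs hv1
  have e1 : ∀ (a : ℤ) (x y : Fin l → ℤ), Bf (cartanOf D l) (a • x) y = a * Bf (cartanOf D l) x y :=
    fun a x y => bf_smul_left a x y
  have e2 : ∀ (a : ℤ) (x y : Fin l → ℤ), Bf (cartanOf D l) x (a • y) = a * Bf (cartanOf D l) x y :=
    fun a x y => by rw [hR.symm, e1, hR.symm]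
  have n2 : Bf (cartanOf D l) (vec D l r) (vec D l s) ≠ -2 := by
    intro h0
    have h1 := hR.eq_neg mr ms h0
    apply hsn
    apply vec_inj hp hs (NPerm.neg_lt hp.inList hr)
    rw [vec_neg hp hr, h1, _root_.neg_neg]
  have b1 := hR.ge mr ms
  have htwo := hR.two _ mv
  rw [hv, hR.add_left, hR.add_right, hR.add_right, e1, e1, e1, e1, e2, e2, e2, e2, hR.two _ mr, hR.two _ ms,
    hR.symm (vec D l s) (vec D l r)] at htwo
  obtain ⟨b, hb⟩ : ∃ b, Bf (cartanOf D l) (vec D l r) (vec D l s) = b := ⟨_, rfl⟩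
  rw [hb] at n2 b1 htwo
  have hi' : (1 : ℤ) ≤ i := by exact_mod_cast hi
  have hj' : (1 : ℤ) ≤ j := by exact_mod_cast hj
  have hb' : b = -1 := by
    by_contra h0
    have : 0 ≤ b := by omega
    nlinarith [mul_nonneg (mul_nonneg (show (0:ℤ) ≤ i by omega) (show (0:ℤ) ≤ j by omega)) this]
  rw [hb'] at htwo
  have hij : (i : ℤ) = 1 ∧ (j : ℤ) = 1 := by
    have h1 : ((i : ℤ) - j) ^ 2 + i * j = 1 := by nlinarith
    have h2 : (1 : ℤ) ≤ i * j := by nlinarith
    have h3 : ((i : ℤ) - j) ^ 2 ≤ 0 := by omega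
    have h4 : ((i : ℤ) - j) = 0 := by nlinarith
    have h5 : (i : ℤ) * j = 1 := by nlinarith
    have h6 : (i : ℤ) = j := by omega
    rw [h6] at h5
    have h7 : (j : ℤ) = 1 := by nlinarith
    exact ⟨by omega, h7⟩
  have hi1 : i = 1 := by exact_mod_cast hij.1
  have hj1 : j = 1 := by exact_mod_cast hij.2
  subst hi1
  subst hj1
  refine ⟨by rw [hb, hb'], hv1, ?_, rfl⟩
  rw [hv, Nat.cast_one, one_smul, one_smul]

include hp cs h4 h6 in
theorem comm_xG' {r s k : ℕ} (hr : r < D.nroots) (hs : s < D.nroots) (hk : k < D.nroots)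
    (hB : Bf (cartanOf D l) (vec D l r) (vec D l s) = -1) (hv : vec D l k = vec D l r + vec D l s) (t u : K) :
    ⁅xG hp.inList s u, xG hp.inList r t⁆ = xG hp.inList k (-(tsum D r s : K) * (u * t)) := by
  have : Finite W := finite_W hp cs
  have hR := roots cs hp.isCartan h4 h6
  have hsr : s ≠ r := by
    rintro rfl
    rw [hR.two _ (isRoot_vec hp cs hs)] at hB
    omega
  have hsn : s ≠ D.neg r := by
    rintro rfl
    rw [vec_neg hp hr, hR.neg_right, hR.two _ (isRoot_vec hp cs hr)] at hB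
    omega
  have h1 := comm_xG (K := K) hp hr hs hsr hsn (-t) (-u)
  rw [xG_inv, xG_inv, _root_.neg_neg, _root_.neg_neg] at h1
  rw [h1]
  show ((D.commWord K r s (-t) (-u)).map fun p => xG hp.inList p.1 p.2).prod = _
  have h2 := word_eval (K := K) (fun k t => xG hp.inList k t) (k := k) (fun a b => (xG_add hp.inList k a b).symm)
    (D.commTerms r s) (fun c hc => by
      obtain ⟨-, c1, c2, c3⟩ := terms hp cs h4 h6 hr hs hsr hsn hc
      exact ⟨vec_inj hp c1 hk (by rw [c2, hv]), c3⟩) (-t) (-u)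
  refine h2.trans ?_
  rw [tsum_def]
  congr 1
  ring

include hp cs h4 h6 in
theorem comm_xG_pos {r s : ℕ} (hr : r < D.nroots) (hs : s < D.nroots)
    (hB : 0 ≤ Bf (cartanOf D l) (vec D l r) (vec D l s)) (t u : K) :
    Commute (xG hp.inList s u) (xG hp.inList r t) := by
  have : Finite W := finite_W hp cs
  have hR := roots cs hp.isCartan h4 h6
  by_cases hsr : s = r
  · subst hsr
    show _ * _ = _ * _
    rw [xG_add, xG_add, add_comm]
  have hsn : s ≠ D.neg r := by
    rintro rfl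
    rw [vec_neg hp hr, hR.neg_right, hR.two _ (isRoot_vec hp cs hr)] at hB
    omega
  have h1 := comm_xG (K := K) hp hr hs hsr hsn (-t) (-u)
  rw [xG_inv, xG_inv, _root_.neg_neg, _root_.neg_neg] at h1
  rw [← commutatorElement_eq_one_iff_commute, h1]
  have h2 : D.commTerms r s = [] := by
    rw [List.eq_nil_iff_forall_not_mem]
    intro c hc
    have := (terms hp cs h4 h6 hr hs hsr hsn hc).1
    omega
  have h3 : D.commWord K r s (-t) (-u) = [] := by
    show (D.commTerms r s).map _ = []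
    rw [h2]; rfl
  rw [h3, wordG_nil]

/-- `w ∈ W` is induced by an element of `D.group K`, up to signs. -/
theorem exists_rep (w : W) : ∃ n ∈ D.group K, ∀ x, IsRoot cs hp.isCartan x → ∃ η : K, η * η = 1 ∧ ∀ t : K,
    n * ChevTwoInst.ev hp.inList l x t * n⁻¹ = ChevTwoInst.ev hp.inList l (rep cs hp.isCartan w x) (η * t) := by
  obtain ⟨ω, rfl⟩ := cs.wordProd_surjective w
  induction ω with
  | nil =>
    refine ⟨1, one_mem _, fun x hx => ⟨1, mul_one _, fun t => ?_⟩⟩
    rw [wordProd_nil, map_one, Module.End.one_apply, one_mul, inv_one, mul_one, one_mul]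
  | cons i ω ih =>
    obtain ⟨n, hn, ih⟩ := ih
    refine ⟨nG hp.inList (D.simple i) 1 * n, mul_mem (nG_mem_group _ _ _) hn, fun x hx => ?_⟩
    obtain ⟨η, h1, h2⟩ := ih x hx
    obtain ⟨r, hr, hrx⟩ := (isRoot_iff hp cs _).1 (hx.act (cs.wordProd ω))
    obtain ⟨η', h3, h4⟩ := Irreducible.nG_conj (F := K) hp.inList i r (lt_rank hp i) hr
    refine ⟨(η' : K) * η, ?_, fun t => ?_⟩
    · have : (η' : K) * η' = 1 := by rcases h3 with rfl | rfl <;> simp
      calc (η' : K) * η * (η' * η) = (η' * η') * (η * η) := by ring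
        _ = 1 := by rw [this, h1, mul_one]
    · have e : nG hp.inList (D.simple i) 1 * n * ChevTwoInst.ev hp.inList l x t * (nG hp.inList (D.simple i) 1 * n)⁻¹ =
        nG hp.inList (D.simple i) 1 * (n * ChevTwoInst.ev hp.inList l x t * n⁻¹) *
          (nG hp.inList (D.simple i) 1)⁻¹ := by group
      rw [e, h2, wordProd_cons, rep_mul_apply, ← hrx, ChevTwoInst.ev_vec hp hr, h4, mul_inv_cancel_right,
        rep_vec hp cs i hr, ChevTwoInst.ev_vec hp (NPerm.reflectRoot_lt hp.inList (lt_rank hp i) hr), mul_assoc]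

include hp h4 h6 in
/-- the commutator relation with a nonzero constant -/
theorem exists_N (hPM : (List.range D.rank).all (rowPM D) = true) {x y : Fin l → ℤ}
    (hx : IsRoot cs hp.isCartan x) (hy : IsRoot cs hp.isCartan y) (hB : Bf (cartanOf D l) x y = -1) :
    ∃ N : K, N ≠ 0 ∧ ∀ a b, ⁅ChevTwoInst.ev (K := K) hp.inList l x a, ChevTwoInst.ev hp.inList l y b⁆ =
      ChevTwoInst.ev hp.inList l (x + y) (N * (a * b)) := by
  have : Finite W := finite_W hp cs
  have hR := roots cs hp.isCartan h4 h6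
  obtain ⟨w, i, rfl⟩ := hy
  obtain ⟨n, -, hn⟩ := exists_rep (K := K) hp cs w
  set x' := rep cs hp.isCartan w⁻¹ x with hx'
  have hxx : x = rep cs hp.isCartan w x' := (rep_apply_inv _ _ _ _).symm
  have hrx' : IsRoot cs hp.isCartan x' := hx.act _
  have hB' : Bf (cartanOf D l) x' (sr i) = -1 := by
    rw [← bf_rep (cs := cs) (h := hp.isCartan) h4 h6 w, ← hxx]; exact hB
  obtain ⟨s, hs, hsx⟩ := (isRoot_iff hp cs _).1 hrx'
  have hri : D.simple i < D.nroots := NPerm.simple_lt hp.inList (lt_rank hp i)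
  have hadd : IsRoot cs hp.isCartan (sr i + x') := by
    rw [add_comm]; exact hR.add _ hrx' _ (isRoot_sr cs _ i) hB'
  obtain ⟨k, hk, hkx⟩ := (isRoot_iff hp cs _).1 hadd
  have hBs : Bf (cartanOf D l) (vec D l (D.simple i)) (vec D l s) = -1 := by
    rw [vec_simple hp i, hR.symm, hsx]; exact hB'
  have h1 := fun t u => comm_xG' (K := K) hp cs h4 h6 hri hs hk hBs (by rw [hkx, vec_simple hp i, hsx]) t u
  have hts : (tsum D (D.simple i) s).natAbs = 1 := by
    have h3 := List.all_eq_true.1 hPM i (List.mem_range.2 (lt_rank hp i))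
    have h4' := List.all_eq_true.1 h3 s (List.mem_range.2 hs)
    rw [Bool.or_eq_true, beq_iff_eq] at h4'
    refine h4'.resolve_left fun h5 => of_decide_eq_true h5 ?_
    have h6' := hBs
    rw [hR.symm, vec_simple hp i, bf_sr, pairing_vec hp i hs] at h6'
    exact h6'
  have hne : (-(tsum D (D.simple i) s : K)) ≠ 0 := by
    rw [neg_ne_zero]
    rcases Int.natAbs_eq (tsum D (D.simple i) s) with h | h
    · rw [h, hts]; simp
    · rw [h, hts]; simp
  obtain ⟨η₁, g1, k1⟩ := hn x' hrx'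
  obtain ⟨η₂, g2, k2⟩ := hn (sr i) (isRoot_sr cs _ i)
  obtain ⟨η₃, g3, k3⟩ := hn _ hadd
  have ne1 : η₁ ≠ 0 := fun h => by rw [h, zero_mul] at g1; exact zero_ne_one g1
  have ne2 : η₂ ≠ 0 := fun h => by rw [h, zero_mul] at g2; exact zero_ne_one g2
  have ne3 : η₃ ≠ 0 := fun h => by rw [h, zero_mul] at g3; exact zero_ne_one g3
  refine ⟨η₃ * (-(tsum D (D.simple i) s : K)) * η₁ * η₂,
    mul_ne_zero (mul_ne_zero (mul_ne_zero ne3 hne) ne1) ne2, fun a b => ?_⟩
  have e1 : ChevTwoInst.ev hp.inList l x a = n * ChevTwoInst.ev hp.inList l x' (η₁ * a) * n⁻¹ := by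
    rw [k1, ← hxx, ← mul_assoc, g1, one_mul]
  have e2 : ChevTwoInst.ev hp.inList l (rep cs hp.isCartan w (sr i)) b =
      n * ChevTwoInst.ev hp.inList l (sr i) (η₂ * b) * n⁻¹ := by
    rw [k2, ← mul_assoc, g2, one_mul]
  rw [e1, e2, ChevTwo.conj_comm']
  have e3 : ChevTwoInst.ev hp.inList l x' (η₁ * a) = xG hp.inList s (η₁ * a) := by
    rw [← hsx, ChevTwoInst.ev_vec hp hs]
  have e4 : ChevTwoInst.ev hp.inList l (sr i) (η₂ * b) = xG hp.inList (D.simple i) (η₂ * b) := by
    rw [← vec_simple hp i, ChevTwoInst.ev_vec hp hri]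
  rw [e3, e4, h1, ← ChevTwoInst.ev_vec hp hk, hkx, k3]
  have e5 : rep cs hp.isCartan w (sr i + x') = x + rep cs hp.isCartan w (sr i) := by
    rw [map_add, ← hxx, add_comm]
  rw [e5]
  congr 1
  ring

/-- The structure constants. -/
noncomputable def NN (l : ℕ) (K : Type u) [Field K] (hD : InList D) (x y : Fin l → ℤ) : K := by
  classical
  exact if h : ∃ N : K, N ≠ 0 ∧ ∀ a b, ⁅ChevTwoInst.ev (K := K) hD l x a, ChevTwoInst.ev hD l y b⁆ =
      ChevTwoInst.ev hD l (x + y) (N * (a * b)) then h.choose else 1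

include h4 h6 in
theorem NN_spec (hPM : (List.range D.rank).all (rowPM D) = true) {x y : Fin l → ℤ}
    (hx : IsRoot cs hp.isCartan x) (hy : IsRoot cs hp.isCartan y) (hB : Bf (cartanOf D l) x y = -1) :
    NN l K hp.inList x y ≠ 0 ∧ ∀ a b, ⁅ChevTwoInst.ev (K := K) hp.inList l x a, ChevTwoInst.ev hp.inList l y b⁆ =
      ChevTwoInst.ev hp.inList l (x + y) (NN l K hp.inList x y * (a * b)) := by
  have h := exists_N (K := K) hp cs h4 h6 hPM hx hy hB
  unfold NN
  rw [dif_pos h]
  exact h.choose_spec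

include h4 h6 in
/-- **The signed system in `GL`.** -/
theorem ssys_GL (hPM : (List.range D.rank).all (rowPM D) = true) :
    SSys (Bf (cartanOf D l)) {x | IsRoot cs hp.isCartan x} (NN l K hp.inList) (ChevTwoInst.ev hp.inList l) := by
  have : Finite W := finite_W hp cs
  have hR := roots cs hp.isCartan h4 h6
  refine ⟨hR, ?_, ?_, ?_, ?_, ?_⟩
  · intro x hx a b
    obtain ⟨r, hr, rfl⟩ := (isRoot_iff hp cs x).1 hx
    rw [ChevTwoInst.ev_vec hp hr, ChevTwoInst.ev_vec hp hr, ChevTwoInst.ev_vec hp hr, xG_add]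
  · intro x hx a ha
    obtain ⟨r, hr, rfl⟩ := (isRoot_iff hp cs x).1 hx
    rw [ChevTwoInst.ev_vec hp hr] at ha
    exact (xG_eq_one_iff hp.inList hr a).1 ha
  · intro x hx y hy hB
    exact (NN_spec hp cs h4 h6 hPM hx hy hB).1
  · intro x hx y hy hB a b
    exact (NN_spec hp cs h4 h6 hPM hx hy hB).2 a b
  · intro x hx y hy hB a b
    obtain ⟨r, hr, rfl⟩ := (isRoot_iff hp cs x).1 hx
    obtain ⟨s, hs, rfl⟩ := (isRoot_iff hp cs y).1 hy
    rw [ChevTwoInst.ev_vec hp hr, ChevTwoInst.ev_vec hp hs]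
    exact comm_xG_pos hp cs h4 h6 hs hr (by rw [hR.symm]; exact hB) b a

/-- Restriction to a subgroup. -/
theorem ssys_restrict {V F Y : Type*} [AddCommGroup V] [Field F] [Group Y] {B : V → V → ℤ} {Φ : Set V}
    {N : V → V → F} {e : V → F → Y} {H : Subgroup Y} {e' : V → F → ↥H} (he : ∀ x t, (e' x t : Y) = e x t)
    (S : SSys B Φ N e) : SSys B Φ N e' where
  roots := S.roots
  add r hr a b := Subtype.ext (by rw [Subgroup.coe_mul, he, he, he]; exact S.add r hr a b)
  inj r hr a ha := S.inj r hr a (by rw [← he, ha]; rfl)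
  ne := S.ne
  comm r hr s hs hrs a b := Subtype.ext (by
    have := S.comm r hr s hs hrs a b
    rw [commutatorElement_def] at this ⊢
    rw [Subgroup.coe_mul, Subgroup.coe_mul, Subgroup.coe_mul, Subgroup.coe_inv, Subgroup.coe_inv, he, he, he]
    exact this)
  one r hr s hs hrs a b := Subtype.ext (by
    rw [Subgroup.coe_mul, Subgroup.coe_mul, he, he]
    exact (S.one r hr s hs hrs a b).eq)

include h4 h6 in
/-- **The signed system in `D.group K`.** -/
theorem ssys (hPM : (List.range D.rank).all (rowPM D) = true) :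
    SSys (Bf (cartanOf D l)) {x | IsRoot cs hp.isCartan x} (NN l K hp.inList)
      (Mult.LacedE.eg (K := K) hp.inList l) :=
  ssys_restrict (fun _ _ => rfl) (ssys_GL hp cs h4 h6 hPM)

end

end Cfsg.Agent.H65.ChevSys
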