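import Mathlib
import Cfsg.Agent.H163.E6.Defs
import Cfsg.Agent.H333.E6Act
import Cfsg.Agent.H65.E6Ext

/-!
# S5927: the two 27-dimensional modules are irreducible (helper65)
-/

set_option autoImplicit false
set_option linter.unusedSectionVars false

namespace Cfsg.Agent.H65.E6Irr

open Cfsg Cfsg.Lie Module
open Cfsg.Agent.ChevalleyStructure.E6Min.Tables Cfsg.Agent.ChevalleyStructure.E6Min.Basic
  Cfsg.Agent.ChevalleyStructure.E6Min.Adjoint
open Cfsg.Agent.H163.E6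
open scoped Matrix

universe u

variable {F : Type u} [Field F]

theorem Nm_mem {W : Submodule F (I27 → F)} (hW : ∀ g : ↥(Zgrp F), ∀ w ∈ W, V F g w ∈ W) {r : ℕ} (hr : r < 72)
    {w : I27 → F} (hw : w ∈ W) : Nm F r *ᵥ w ∈ W := by
  have h := W.sub_mem (hW ⟨zU r 1, zU_mem r 1⟩ w hw) hw
  rw [V_apply, coe_zU hr, zM_def, one_smul, Matrix.add_mulVec, Matrix.one_mulVec, add_sub_cancel_left] at h
  exact h

/-- killing coordinates -/
theorem exists_kill {W : Submodule F (I27 → F)} (hW : ∀ g : ↥(Zgrp F), ∀ w ∈ W, V F g w ∈ W) {w : I27 → F}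
    (hw : w ∈ W) (x : I27) (S : Finset I27) (hS : x ∉ S) : ∃ w' ∈ W, w' x = w x ∧ ∀ y ∈ S, w' y = 0 := by
  induction S using Finset.induction_on with
  | empty => exact ⟨w, hw, rfl, fun y hy => absurd hy (Finset.notMem_empty y)⟩
  | insert y S hy ih =>
    obtain ⟨w', hw', h1, h2⟩ := ih (fun h => hS (Finset.mem_insert_of_mem h))
    have hxy : x ≠ y := fun h => hS (h ▸ Finset.mem_insert_self _ _)
    obtain ⟨r, k1, k2⟩ := Cfsg.Agent.H65.E6Ext.chk_sep x y hxy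
    refine ⟨Nm F r *ᵥ (Nm F (71 - r) *ᵥ w'), Nm_mem hW r.2 (Nm_mem hW (by omega) hw'), ?_, ?_⟩
    · rw [Matrix.mulVec_mulVec, Nm_mul_opp r.2, Matrix.mulVec_diagonal, ind_of_ne k1, Int.cast_one, one_mul, h1]
    · intro z hz
      rw [Matrix.mulVec_mulVec, Nm_mul_opp r.2, Matrix.mulVec_diagonal]
      rcases Finset.mem_insert.1 hz with rfl | hz
      · rw [ind_of_eq k2, Int.cast_zero, zero_mul]
      · rw [h2 z hz, mul_zero]

theorem single_mem {W : Submodule F (I27 → F)} (hW : ∀ g : ↥(Zgrp F), ∀ w ∈ W, V F g w ∈ W) {w : I27 → F}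
    (hw : w ∈ W) {x : I27} (hx : w x ≠ 0) : (Pi.single x 1 : I27 → F) ∈ W := by
  obtain ⟨w', hw', h1, h2⟩ := exists_kill hW hw x (Finset.univ.erase x) (Finset.notMem_erase _ _)
  have h3 : (Pi.single x 1 : I27 → F) = (w x)⁻¹ • w' := by
    funext y
    by_cases hy : y = x
    · subst hy
      rw [Pi.single_eq_same, Pi.smul_apply, smul_eq_mul, h1, inv_mul_cancel₀ hx]
    · rw [Pi.single_eq_of_ne hy, Pi.smul_apply, h2 y (Finset.mem_erase.2 ⟨hy, Finset.mem_univ _⟩), smul_zero]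
  rw [h3]
  exact W.smul_mem _ hw'

theorem step {W : Submodule F (I27 → F)} (hW : ∀ g : ↥(Zgrp F), ∀ w ∈ W, V F g w ∈ W) {r : ℕ} (hr : r < 72)
    {x : I27} (hx : sg r x ≠ 0) (h : (Pi.single (sr r x) 1 : I27 → F) ∈ W) : (Pi.single x 1 : I27 → F) ∈ W := by
  refine single_mem hW (Nm_mem hW hr h) (x := x) ?_
  rw [Nm_mulVec, Pi.single_eq_same, mul_one]
  exact Cfsg.Agent.H65.E6Ext.sg_ne_zero hr hx

theorem step' {W : Submodule F (I27 → F)} (hW : ∀ g : ↥(Zgrp F), ∀ w ∈ W, V F g w ∈ W) {r : ℕ} (hr : r < 72)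
    {x : I27} (hx : sg r x ≠ 0) (h : (Pi.single x 1 : I27 → F) ∈ W) : (Pi.single (sr r x) 1 : I27 → F) ∈ W := by
  obtain ⟨k1, k2, -⟩ := row_opp hr hx
  have h1 : sg (71 - r) (sr r x) ≠ 0 := by
    intro h0
    rw [h0, mul_zero] at k2
    exact absurd k2 (by decide)
  exact step hW (r := 71 - r) (by omega) h1 (by rw [k1]; exact h)

/-- **`V` is irreducible.** -/
theorem irr_V {W : Submodule F (I27 → F)} (hW : ∀ g : ↥(Zgrp F), ∀ w ∈ W, V F g w ∈ W) : W = ⊥ ∨ W = ⊤ := by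
  rw [or_iff_not_imp_left]
  intro h0
  obtain ⟨w, hw, hw0⟩ := Submodule.exists_mem_ne_zero_of_ne_bot h0
  obtain ⟨x, hx⟩ : ∃ x, w x ≠ 0 := by
    by_contra hcon
    push Not at hcon
    exact hw0 (funext hcon)
  have h1 := single_mem hW hw hx
  have h2 : (Pi.single (dec 0) 1 : I27 → F) ∈ W := by
    obtain ⟨r, h | ⟨s, k1, k2, k3⟩⟩ := Cfsg.Agent.H65.E6Ext.chk_conn x
    · rcases h with h | ⟨k1, k2⟩
      · rw [← h]; exact h1
      · rw [← k2]; exact step' hW r.2 k1 h1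
    · rw [← k3]; exact step' hW s.2 k2 (step' hW r.2 k1 h1)
  have h3 : ∀ y : I27, (Pi.single y 1 : I27 → F) ∈ W := by
    intro y
    obtain ⟨r, h | ⟨s, k1, k2, k3⟩⟩ := Cfsg.Agent.H65.E6Ext.chk_conn y
    · rcases h with h | ⟨k1, k2⟩
      · rw [h]; exact h2
      · exact step hW r.2 k1 (by rw [k2]; exact h2)
    · exact step hW r.2 k1 (step hW s.2 k2 (by rw [k3]; exact h2))
  rw [eq_top_iff]
  intro v _
  have h4 : v = ∑ y, v y • (Pi.single y 1 : I27 → F) := by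
    conv_lhs => rw [← Finset.univ_sum_single v]
    refine Finset.sum_congr rfl fun y _ => ?_
    rw [← Pi.single_smul, smul_eq_mul, mul_one]
  rw [h4]
  exact W.sum_mem fun y _ => W.smul_mem _ (h3 y)

/-- **`V'` is irreducible.** -/
theorem irr_V' {W : Submodule F (I27 → F)} (hW : ∀ g : ↥(Zgrp F), ∀ w ∈ W, V' F g w ∈ W) : W = ⊥ ∨ W = ⊤ :=
  irr_V fun g w hw => by
    rw [← Act.V'_gz]
    exact hW _ w hw

/-- both modules are irreducible -/
theorem irr {ρ : Representation F ↥(Zgrp F) (I27 → F)} (hρ : ρ = V F ∨ ρ = V' F) {W : Submodule F (I27 → F)}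
    (hW : ∀ g, ∀ w ∈ W, ρ g w ∈ W) : W = ⊥ ∨ W = ⊤ := by
  rcases hρ with rfl | rfl
  · exact irr_V hW
  · exact irr_V' hW

/-- the kernel of `ad` acts by scalars -/
theorem ker_smul {ρ : Representation F ↥(Zgrp F) (I27 → F)} (hρ : ρ = V F ∨ ρ = V' F) {g : ↥(Zgrp F)}
    (hg : ad F g = 1) : ∃ c : F, c ^ 3 = 1 ∧ ∀ x, ρ g x = c • x := by
  have key : ∀ g : ↥(Zgrp F), ad F g = 1 → ∃ c : F, c ^ 3 = 1 ∧ ∀ x, V F g x = c • x := by
    intro g hg
    obtain ⟨c, hc, h⟩ := Cfsg.Agent.H65.E6Ext.ker_scalar hg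
    refine ⟨c, hc, fun x => ?_⟩
    rw [V_apply, h, Matrix.smul_mulVec, Matrix.one_mulVec]
  rcases hρ with rfl | rfl
  · exact key g hg
  · have h1 : g ∈ (ad F).ker := hg
    rw [ker_ad, Subgroup.mem_center_iff] at h1
    have h2 : ad F (Act.gz g) = 1 := by
      change Act.gz g ∈ (ad F).ker
      rw [ker_ad, Subgroup.mem_center_iff]
      intro h
      have h3 := congrArg Act.gz (h1 (Act.gz h))
      rwa [Act.gz_mul, Act.gz_mul, Act.gz_gz] at h3
    obtain ⟨c, hc, h⟩ := key _ h2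
    exact ⟨c, hc, fun x => by rw [← Act.V_gz]; exact h x⟩

end Cfsg.Agent.H65.E6Irr
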