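import Mathlib
import Cfsg.Agent.OddOrderLocal.FrobRep

/-!
# Dimensions of fixed spaces of finite groups of order prime to the characteristic (helper65)

`I ρ B` : the vectors fixed by the subgroup `B`; `d ρ B` : its dimension.

* `frob` : for `M` normalised by `N` and `H`, `H` normalising `N` without fixed points,
  `|H| d (M N H) + d M = d (M N) + |H| d (M H)`;
* `rel2` : the relation for two commuting involutions on a subspace;
* `rel3` : the relation for two commuting elements of order three on a subspace.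
-/

set_option autoImplicit false

namespace Cfsg.Agent.H65.FixDim

open Module

variable {F G U : Type*} [Field F] [Group G] [AddCommGroup U] [Module F U]

/-- the vectors fixed by a subgroup -/
def I (ρ : Representation F G U) (B : Subgroup G) : Submodule F U where
  carrier := {x | ∀ g ∈ B, ρ g x = x}
  add_mem' := by
    intro x y hx hy g hg
    rw [map_add, hx g hg, hy g hg]
  zero_mem' := by
    intro g _
    exact map_zero _
  smul_mem' := by
    intro c x hx g hg
    rw [map_smul, hx g hg]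

variable {ρ : Representation F G U}

theorem mem_I {B : Subgroup G} {x : U} : x ∈ I ρ B ↔ ∀ g ∈ B, ρ g x = x := Iff.rfl

theorem rmul (g h : G) (v : U) : ρ (g * h) v = ρ g (ρ h v) := by
  rw [map_mul]
  rfl

theorem rone (v : U) : ρ 1 v = v := by
  rw [map_one]
  rfl

theorem rinv (g : G) (v : U) : ρ g⁻¹ (ρ g v) = v := by
  rw [← rmul, inv_mul_cancel, rone]

theorem rinv' (g : G) (v : U) : ρ g (ρ g⁻¹ v) = v := by
  rw [← rmul, mul_inv_cancel, rone]

/-- the stabilizer of a vector -/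
def St (ρ : Representation F G U) (x : U) : Subgroup G where
  carrier := {g | ρ g x = x}
  mul_mem' := by
    intro a b ha hb
    show ρ (a * b) x = x
    rw [rmul, hb, ha]
  one_mem' := rone x
  inv_mem' := by
    intro a ha
    show ρ a⁻¹ x = x
    have h : ρ a x = x := ha
    nth_rw 1 [← h]
    exact rinv a x

theorem mem_St {x : U} {g : G} : g ∈ St ρ x ↔ ρ g x = x := Iff.rfl

theorem mem_I_iff {B : Subgroup G} {x : U} : x ∈ I ρ B ↔ B ≤ St ρ x := Iff.rfl

theorem mem_I_closure {S : Set G} {x : U} : x ∈ I ρ (Subgroup.closure S) ↔ ∀ g ∈ S, ρ g x = x := by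
  rw [mem_I_iff, Subgroup.closure_le]
  rfl

theorem I_sup (A B : Subgroup G) : I ρ (A ⊔ B) = I ρ A ⊓ I ρ B := by
  ext x
  rw [Submodule.mem_inf, mem_I_iff, mem_I_iff, mem_I_iff, sup_le_iff]

theorem I_anti {A B : Subgroup G} (h : A ≤ B) : I ρ B ≤ I ρ A := fun _ hx g hg => hx g (h hg)

theorem I_bot : I ρ (⊥ : Subgroup G) = ⊤ := by
  rw [eq_top_iff]
  intro x _ g hg
  rw [Subgroup.mem_bot.1 hg, rone]

/-- the dimension of the fixed space -/
noncomputable def d (ρ : Representation F G U) (B : Subgroup G) : ℕ := finrank F ↥(I ρ B)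

theorem d_bot : d ρ (⊥ : Subgroup G) = finrank F U := by
  rw [d, I_bot, finrank_top]

section frob

variable [FiniteDimensional F U]

theorem d_anti {A B : Subgroup G} (h : A ≤ B) : d ρ B ≤ d ρ A := Submodule.finrank_mono (I_anti h)

/-- the averaging operator -/
noncomputable def av (ρ : Representation F G U) (N : Subgroup G) [Fintype ↥N] : U →ₗ[F] U :=
  ((Fintype.card ↥N : F)⁻¹) • ∑ n : ↥N, ρ n

variable {N : Subgroup G} [Fintype ↥N]

omit [FiniteDimensional F U] in
theorem av_apply (x : U) : av ρ N x = (Fintype.card ↥N : F)⁻¹ • ∑ n : ↥N, ρ n x := by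
  rw [av, LinearMap.smul_apply, LinearMap.sum_apply]

omit [FiniteDimensional F U] in
theorem av_mem (x : U) : av ρ N x ∈ I ρ N := by
  intro g hg
  rw [av_apply, map_smul, map_sum]
  congr 1
  refine Fintype.sum_bijective (fun n : ↥N => (⟨g, hg⟩ : ↥N) * n) (Group.mulLeft_bijective _) _ _ fun n => ?_
  rw [← rmul]
  rfl

omit [FiniteDimensional F U] in
theorem av_of_mem (hN : (Fintype.card ↥N : F) ≠ 0) {x : U} (hx : x ∈ I ρ N) : av ρ N x = x := by
  rw [av_apply, Finset.sum_congr rfl (fun n _ => hx n.1 n.2), Finset.sum_const, Finset.card_univ,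
    ← Nat.cast_smul_eq_nsmul F, smul_smul, inv_mul_cancel₀ hN, one_smul]

omit [FiniteDimensional F U] in
/-- the averaging operator commutes with the normaliser -/
theorem av_comm {g : G} (hg : ∀ n ∈ N, g * n * g⁻¹ ∈ N) (hg' : ∀ n ∈ N, g⁻¹ * n * g ∈ N) (x : U) :
    ρ g (av ρ N x) = av ρ N (ρ g x) := by
  rw [av_apply, av_apply, map_smul, map_sum]
  congr 1
  let e : ↥N ≃ ↥N :=
    { toFun := fun n => ⟨g * n.1 * g⁻¹, hg n.1 n.2⟩
      invFun := fun n => ⟨g⁻¹ * n.1 * g, hg' n.1 n.2⟩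
      left_inv := fun n => by
        apply Subtype.ext
        show g⁻¹ * (g * n.1 * g⁻¹) * g = n.1
        group
      right_inv := fun n => by
        apply Subtype.ext
        show g * (g⁻¹ * n.1 * g) * g⁻¹ = n.1
        group }
  refine Fintype.sum_equiv e _ _ fun n => ?_
  rw [← rmul, ← rmul]
  show ρ (g * n.1) x = ρ (g * n.1 * g⁻¹ * g) x
  rw [inv_mul_cancel_right]

omit [FiniteDimensional F U] [Fintype ↥N] in
/-- a group normalising `M` preserves `I M` -/
theorem I_stable {M : Subgroup G} {g : G} (hg : ∀ m ∈ M, g⁻¹ * m * g ∈ M) {x : U} (hx : x ∈ I ρ M) : ρ g x ∈ I ρ M := by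
  intro m hm
  have h1 := hx _ (hg m hm)
  have h2 : ρ m (ρ g x) = ρ g (ρ (g⁻¹ * m * g) x) := by
    rw [← rmul, ← rmul]
    congr 1
    rw [← mul_assoc, ← mul_assoc, mul_inv_cancel, one_mul]
  rw [h2, h1]

omit [Fintype ↥N] in
/-- **The relation for a group `N H` in which `H` acts on `N` without fixed points.** -/
theorem frob (M N H : Subgroup G) [Finite ↥N] [Finite ↥H] (hN : (Nat.card ↥N : F) ≠ 0)
    (hMN : ∀ n ∈ N, ∀ m ∈ M, n * m * n⁻¹ ∈ M) (hMH : ∀ h ∈ H, ∀ m ∈ M, h * m * h⁻¹ ∈ M)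
    (hNH : ∀ h ∈ H, ∀ n ∈ N, h * n * h⁻¹ ∈ N)
    (hfree : ∀ h ∈ H, h ≠ 1 → ∀ n ∈ N, h * n * h⁻¹ = n → n = 1) :
    Nat.card ↥H * d ρ (M ⊔ N ⊔ H) + d ρ M = d ρ (M ⊔ N) + Nat.card ↥H * d ρ (M ⊔ H) := by
  classical
  have : Fintype ↥N := Fintype.ofFinite _
  have hN' : (Fintype.card ↥N : F) ≠ 0 := by rwa [← Nat.card_eq_fintype_card]
  have hMN' : ∀ n ∈ N, ∀ m ∈ M, n⁻¹ * m * n ∈ M := fun n hn m hm => by
    have := hMN n⁻¹ (inv_mem hn) m hm
    rwa [inv_inv] at this
  have hMH' : ∀ h ∈ H, ∀ m ∈ M, h⁻¹ * m * h ∈ M := fun n hn m hm => by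
    have := hMH n⁻¹ (inv_mem hn) m hm
    rwa [inv_inv] at this
  have hNH' : ∀ h ∈ H, ∀ m ∈ N, h⁻¹ * m * h ∈ N := fun n hn m hm => by
    have := hNH n⁻¹ (inv_mem hn) m hm
    rwa [inv_inv] at this
  -- the averaging operator preserves `I M`
  have hav : ∀ {x : U}, x ∈ I ρ M → av ρ N x ∈ I ρ M := by
    intro x hx
    rw [av_apply]
    exact Submodule.smul_mem _ _ (Submodule.sum_mem _ fun n _ => I_stable (hMN' n.1 n.2) hx)
  -- rank-nullity
  have rn : ∀ (W : Submodule F U), (∀ x ∈ W, av ρ N x ∈ W) →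
      finrank F ↥W = finrank F ↥(W ⊓ I ρ N) + finrank F ↥(W ⊓ LinearMap.ker (av ρ N)) := by
    intro W hW
    set f := (av ρ N).domRestrict W with hf
    have h1 := LinearMap.finrank_range_add_finrank_ker f
    have h2 : LinearMap.range f = W ⊓ I ρ N := by
      ext x
      constructor
      · rintro ⟨y, rfl⟩
        exact ⟨hW y.1 y.2, av_mem _⟩
      · rintro ⟨hx, hx'⟩
        exact ⟨⟨x, hx⟩, av_of_mem hN' hx'⟩
    have h3 : (LinearMap.ker f).map W.subtype = W ⊓ LinearMap.ker (av ρ N) := by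
      ext x
      constructor
      · rintro ⟨y, hy, rfl⟩
        exact ⟨y.2, hy⟩
      · rintro ⟨hx, hx'⟩
        exact ⟨⟨x, hx⟩, hx', rfl⟩
    have h4 := Submodule.finrank_map_subtype_eq W (LinearMap.ker f)
    rw [h3] at h4
    rw [← h1, h2, h4]
  -- the space without fixed vectors
  set W' := I ρ M ⊓ LinearMap.ker (av ρ N) with hW'
  have hWN : ∀ n ∈ N, ∀ x ∈ W', ρ n x ∈ W' := by
    rintro n hn x ⟨hx, hx'⟩
    refine ⟨I_stable (hMN' n hn) hx, ?_⟩
    rw [SetLike.mem_coe, LinearMap.mem_ker] at hx' ⊢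
    rw [← av_comm (fun m hm => mul_mem (mul_mem hn hm) (inv_mem hn))
      (fun m hm => mul_mem (mul_mem (inv_mem hn) hm) hn), hx', map_zero]
  have hWH : ∀ n ∈ H, ∀ x ∈ W', ρ n x ∈ W' := by
    rintro n hn x ⟨hx, hx'⟩
    refine ⟨I_stable (hMH' n hn) hx, ?_⟩
    rw [SetLike.mem_coe, LinearMap.mem_ker] at hx' ⊢
    rw [← av_comm (hNH n hn) (hNH' n hn), hx', map_zero]
  let ρN : Representation F ↥N ↥W' :=
    { toFun := fun n => (ρ n.1).restrict (hWN n.1 n.2)
      map_one' := by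
        refine LinearMap.ext fun x => Subtype.ext ?_
        show ρ (1 : G) x.1 = x.1
        exact rone _
      map_mul' := by
        intro a b
        refine LinearMap.ext fun x => Subtype.ext ?_
        show ρ (a.1 * b.1) x.1 = ρ a.1 (ρ b.1 x.1)
        exact rmul _ _ _ }
  let ρH : Representation F ↥H ↥W' :=
    { toFun := fun n => (ρ n.1).restrict (hWH n.1 n.2)
      map_one' := by
        refine LinearMap.ext fun x => Subtype.ext ?_
        show ρ (1 : G) x.1 = x.1
        exact rone _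
      map_mul' := by
        intro a b
        refine LinearMap.ext fun x => Subtype.ext ?_
        show ρ (a.1 * b.1) x.1 = ρ a.1 (ρ b.1 x.1)
        exact rmul _ _ _ }
  let σ : ↥H →* MulAut ↥N :=
    MonoidHom.mk' (fun h =>
      { toFun := fun n => ⟨h.1 * n.1 * h.1⁻¹, hNH h.1 h.2 n.1 n.2⟩
        invFun := fun n => ⟨h.1⁻¹ * n.1 * h.1, hNH' h.1 h.2 n.1 n.2⟩
        left_inv := fun n => by
          apply Subtype.ext
          show h.1⁻¹ * (h.1 * n.1 * h.1⁻¹) * h.1 = n.1
          group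
        right_inv := fun n => by
          apply Subtype.ext
          show h.1 * (h.1⁻¹ * n.1 * h.1) * h.1⁻¹ = n.1
          group
        map_mul' := fun a b => by
          apply Subtype.ext
          show h.1 * (a.1 * b.1) * h.1⁻¹ = (h.1 * a.1 * h.1⁻¹) * (h.1 * b.1 * h.1⁻¹)
          group }) (by
      intro g h
      apply MulEquiv.ext
      intro n
      apply Subtype.ext
      show (g.1 * h.1) * n.1 * (g.1 * h.1)⁻¹ = g.1 * (h.1 * n.1 * h.1⁻¹) * g.1⁻¹
      group)
  have hσ : ∀ (h : ↥H) (n : ↥N), ((σ h n : ↥N) : G) = h.1 * n.1 * h.1⁻¹ := fun h n => rfl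
  have key := (Cfsg.Agent.OddOrderLocal.FrobRep.finrank_eq (K := ↥N) (R := ↥H) (V := ↥W') hN ρN ρH σ
    (by
      intro r k v
      apply Subtype.ext
      show ρ r.1 (ρ k.1 v.1) = ρ ((σ r k : ↥N) : G) (ρ r.1 v.1)
      rw [hσ, ← rmul, ← rmul, inv_mul_cancel_right])
    (by
      intro v hv
      apply Subtype.ext
      have h1 : v.1 ∈ I ρ N := fun n hn => congrArg Subtype.val (hv ⟨n, hn⟩)
      have h2 := av_of_mem hN' h1
      rw [← h2]
      exact v.2.2)
    (by
      intro r hr k hk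
      apply Subtype.ext
      refine hfree r.1 r.2 (fun h => hr (Subtype.ext h)) k.1 k.2 ?_
      rw [← hσ, hk])).1
  have hinv : finrank F ↥(ρH.invariants) = finrank F ↥((I ρ M ⊓ I ρ H) ⊓ LinearMap.ker (av ρ N)) := by
    have h1 : (ρH.invariants).map W'.subtype = (I ρ M ⊓ I ρ H) ⊓ LinearMap.ker (av ρ N) := by
      ext x
      constructor
      · rintro ⟨y, hy, rfl⟩
        refine ⟨⟨y.2.1, fun h hh => ?_⟩, y.2.2⟩
        exact congrArg Subtype.val ((Representation.mem_invariants _ _).1 hy ⟨h, hh⟩)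
      · rintro ⟨⟨hx, hx'⟩, hx''⟩
        refine ⟨⟨x, hx, hx''⟩, ?_, rfl⟩
        refine (Representation.mem_invariants _ _).2 fun h => Subtype.ext (hx' h.1 h.2)
    have h2 := Submodule.finrank_map_subtype_eq W' (ρH.invariants)
    rw [h1] at h2
    exact h2.symm
  have e1 := rn (I ρ M) (fun x hx => hav hx)
  have e2 := rn (I ρ M ⊓ I ρ H) (fun x hx => ⟨hav hx.1, by
    intro h hh
    rw [av_comm (hNH h hh) (hNH' h hh), hx.2 h hh]⟩)
  rw [hinv] at key
  have e3 : (I ρ M ⊓ I ρ H) ⊓ I ρ N = I ρ M ⊓ I ρ N ⊓ I ρ H := by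
    rw [inf_assoc, inf_comm (I ρ H), ← inf_assoc]
  rw [e3] at e2
  unfold d
  rw [I_sup, I_sup, I_sup, e1, e2, ← hW', key]
  ring

end frob

/-! ### Elementary abelian groups of rank two -/

section rel

variable [FiniteDimensional F U]

/-- the fixed vectors of an endomorphism -/
def Fx (A : U →ₗ[F] U) : Submodule F U := LinearMap.ker (A - 1)

omit [FiniteDimensional F U] in
theorem mem_Fx {A : U →ₗ[F] U} {x : U} : x ∈ Fx A ↔ A x = x := by
  rw [Fx, LinearMap.mem_ker, LinearMap.sub_apply, Module.End.one_apply, sub_eq_zero]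

/-- dimension of a sum of subspaces with common pairwise "intersections" -/
theorem two_sup {W A B C : Submodule F U} (hA : A ≤ W) (hB : B ≤ W) (hC : C ≤ W) {E : Submodule F U}
    (hAB : A ⊓ B = E) (hABC : (A ⊔ B) ⊓ C = E) (htop : W ≤ A ⊔ B ⊔ C) :
    finrank F ↥A + finrank F ↥B + finrank F ↥C = finrank F ↥W + 2 * finrank F ↥E := by
  have h1 := Submodule.finrank_sup_add_finrank_inf_eq A B
  have h2 := Submodule.finrank_sup_add_finrank_inf_eq (A ⊔ B) C
  have h3 : A ⊔ B ⊔ C = W := le_antisymm (sup_le (sup_le hA hB) hC) htop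
  rw [hAB] at h1
  rw [hABC, h3] at h2
  omega

/-- **Two commuting involutions on a subspace.** -/
theorem rel2 (h2 : (2 : F) ≠ 0) {W : Submodule F U} {A B : U →ₗ[F] U} (hA : ∀ x ∈ W, A x ∈ W) (hB : ∀ x ∈ W, B x ∈ W)
    (hAA : ∀ x ∈ W, A (A x) = x) (hBB : ∀ x ∈ W, B (B x) = x) (hAB : ∀ x ∈ W, A (B x) = B (A x)) :
    finrank F ↥(W ⊓ Fx A) + finrank F ↥(W ⊓ Fx B) + finrank F ↥(W ⊓ Fx (A * B)) =
      finrank F ↥W + 2 * finrank F ↥(W ⊓ Fx A ⊓ Fx B) := by
  have half : ∀ {y : U}, y + y = (2 : F) • y := fun {y} => (two_smul F y).symm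
  have hi : (2 : F)⁻¹ * 2 = 1 := inv_mul_cancel₀ h2
  refine two_sup inf_le_left inf_le_left inf_le_left ?_ ?_ ?_
  · ext x
    simp only [Submodule.mem_inf]
    tauto
  · apply le_antisymm
    · rintro x ⟨hx, hxW, hx3⟩
      obtain ⟨y, ⟨hyW, hy⟩, z, ⟨hzW, hz⟩, rfl⟩ := Submodule.mem_sup.1 hx
      rw [SetLike.mem_coe, mem_Fx] at hy hz
      rw [SetLike.mem_coe, mem_Fx, Module.End.mul_apply] at hx3
      -- `A B (y + z) = B y + A z`
      have e1 : B y + A z = y + z := by
        rw [map_add, hz, map_add, hAB y hyW, hy] at hx3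
        exact hx3
      -- `y + z = ½ ((y + B y) + (z + A z))`
      have e2 : (y + z) + (y + z) = (y + B y) + (z + A z) := by
        nth_rw 2 [← e1]
        abel
      have hy' : y + B y ∈ W ⊓ Fx A ⊓ Fx B := by
        refine ⟨⟨W.add_mem hyW (hB y hyW), ?_⟩, ?_⟩
        · rw [SetLike.mem_coe, mem_Fx, map_add, hy, hAB y hyW, hy]
        · rw [SetLike.mem_coe, mem_Fx, map_add, hBB y hyW, add_comm]
      have hz' : z + A z ∈ W ⊓ Fx A ⊓ Fx B := by
        refine ⟨⟨W.add_mem hzW (hA z hzW), ?_⟩, ?_⟩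
        · rw [SetLike.mem_coe, mem_Fx, map_add, hAA z hzW, add_comm]
        · rw [SetLike.mem_coe, mem_Fx, map_add, hz, ← hAB z hzW, hz]
      have e3 : y + z = (2 : F)⁻¹ • ((y + B y) + (z + A z)) := by
        rw [← e2, half, smul_smul, hi, one_smul]
      rw [e3]
      exact Submodule.smul_mem _ _ (Submodule.add_mem _ hy' hz')
    · rintro x ⟨⟨hxW, hx⟩, hx'⟩
      rw [SetLike.mem_coe, mem_Fx] at hx hx'
      refine ⟨Submodule.mem_sup_left ⟨hxW, mem_Fx.2 hx⟩, hxW, ?_⟩
      rw [SetLike.mem_coe, mem_Fx, Module.End.mul_apply, hx', hx]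
  · intro x hx
    -- `2 x = (x + A x) + (x + B x) + (x + A B x) - (x + A x + B x + A B x)`
    have hm1 : x + A x ∈ W ⊓ Fx A := by
      refine ⟨W.add_mem hx (hA x hx), ?_⟩
      rw [SetLike.mem_coe, mem_Fx, map_add, hAA x hx, add_comm]
    have hm2 : x + B x ∈ W ⊓ Fx B := by
      refine ⟨W.add_mem hx (hB x hx), ?_⟩
      rw [SetLike.mem_coe, mem_Fx, map_add, hBB x hx, add_comm]
    have hm3 : x + A (B x) ∈ W ⊓ Fx (A * B) := by
      refine ⟨W.add_mem hx (hA _ (hB x hx)), ?_⟩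
      rw [SetLike.mem_coe, mem_Fx, Module.End.mul_apply, map_add, map_add, hAB x hx, hBB _ (hA x hx), hAA x hx, add_comm]
    have hm4 : x + A x + B x + A (B x) ∈ W ⊓ Fx A := by
      refine ⟨W.add_mem (W.add_mem (W.add_mem hx (hA x hx)) (hB x hx)) (hA _ (hB x hx)), ?_⟩
      rw [SetLike.mem_coe, mem_Fx, map_add, map_add, map_add, hAA x hx, hAA _ (hB x hx)]
      abel
    have e1 : x = (2 : F)⁻¹ • ((x + A x) + (x + B x) + (x + A (B x)) - (x + A x + B x + A (B x))) := by
      have e2 : (x + A x) + (x + B x) + (x + A (B x)) - (x + A x + B x + A (B x)) = x + x := by abel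
      rw [e2, half, smul_smul, hi, one_smul]
    rw [e1]
    apply Submodule.smul_mem
    apply Submodule.sub_mem
    · exact Submodule.add_mem _ (Submodule.add_mem _ (Submodule.mem_sup_left (Submodule.mem_sup_left hm1))
        (Submodule.mem_sup_left (Submodule.mem_sup_right hm2))) (Submodule.mem_sup_right hm3)
    · exact Submodule.mem_sup_left (Submodule.mem_sup_left hm4)

/-- dimension of a sum of four subspaces with common "intersections" -/
theorem four_sup {W A B C D : Submodule F U} (hA : A ≤ W) (hB : B ≤ W) (hC : C ≤ W) (hD : D ≤ W) {E : Submodule F U}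
    (hAB : A ⊓ B = E) (hABC : (A ⊔ B) ⊓ C = E) (hABCD : (A ⊔ B ⊔ C) ⊓ D = E) (htop : W ≤ A ⊔ B ⊔ C ⊔ D) :
    finrank F ↥A + finrank F ↥B + finrank F ↥C + finrank F ↥D = finrank F ↥W + 3 * finrank F ↥E := by
  have h1 := Submodule.finrank_sup_add_finrank_inf_eq A B
  have h2 := Submodule.finrank_sup_add_finrank_inf_eq (A ⊔ B) C
  have h3 := Submodule.finrank_sup_add_finrank_inf_eq (A ⊔ B ⊔ C) D
  have h4 : A ⊔ B ⊔ C ⊔ D = W := le_antisymm (sup_le (sup_le (sup_le hA hB) hC) hD) htop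
  rw [hAB] at h1
  rw [hABC] at h2
  rw [hABCD, h4] at h3
  omega

/-- **Two commuting elements of order three on a subspace.** -/
theorem rel3 (h3 : (3 : F) ≠ 0) {W : Submodule F U} {A B : U →ₗ[F] U} (hA : ∀ x ∈ W, A x ∈ W) (hB : ∀ x ∈ W, B x ∈ W)
    (hAAA : ∀ x ∈ W, A (A (A x)) = x) (hBBB : ∀ x ∈ W, B (B (B x)) = x) (hAB : ∀ x ∈ W, A (B x) = B (A x)) :
    finrank F ↥(W ⊓ Fx A) + finrank F ↥(W ⊓ Fx B) + finrank F ↥(W ⊓ Fx (A * B)) + finrank F ↥(W ⊓ Fx (A * B * B)) =
      finrank F ↥W + 3 * finrank F ↥(W ⊓ Fx A ⊓ Fx B) := by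
  have third : ∀ {y : U}, y + y + y = (3 : F) • y := fun {y} => by
    have : (3 : F) = 1 + 1 + 1 := by norm_num
    rw [this, add_smul, add_smul, one_smul]
  have hi : (3 : F)⁻¹ * 3 = 1 := inv_mul_cancel₀ h3
  -- the element `(1 + B + B²) y` for `A y = y`, `(1 + A + A²) z` for `B z = z`, `(1 + B + B²) t` for `A B t = t`
  have hy' : ∀ y ∈ W, A y = y → y + B y + B (B y) ∈ W ⊓ Fx A ⊓ Fx B := by
    intro y hyW hy
    have hBy := hB y hyW
    refine ⟨⟨W.add_mem (W.add_mem hyW hBy) (hB _ hBy), ?_⟩, ?_⟩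
    · rw [SetLike.mem_coe, mem_Fx, map_add, map_add, hAB _ hBy, hAB _ hyW, hy]
    · rw [SetLike.mem_coe, mem_Fx, map_add, map_add, hBBB y hyW]
      abel
  have hz' : ∀ z ∈ W, B z = z → z + A z + A (A z) ∈ W ⊓ Fx A ⊓ Fx B := by
    intro y hyW hy
    have hAy := hA y hyW
    refine ⟨⟨W.add_mem (W.add_mem hyW hAy) (hA _ hAy), ?_⟩, ?_⟩
    · rw [SetLike.mem_coe, mem_Fx, map_add, map_add, hAAA y hyW]
      abel
    · rw [SetLike.mem_coe, mem_Fx, map_add, map_add, ← hAB _ hAy, ← hAB _ hyW, hy]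
  have ht' : ∀ t ∈ W, A (B t) = t → t + B t + B (B t) ∈ W ⊓ Fx A ⊓ Fx B := by
    intro t htW ht
    have hBt := hB t htW
    have hAt : A t = B (B t) := by
      have h1 : B (A t) = t := by rw [← hAB t htW, ht]
      rw [← hBBB (A t) (hA t htW), h1]
    refine ⟨⟨W.add_mem (W.add_mem htW hBt) (hB _ hBt), ?_⟩, ?_⟩
    · rw [SetLike.mem_coe, mem_Fx, map_add, map_add, hAB _ hBt, ht, hAt]
      abel
    · rw [SetLike.mem_coe, mem_Fx, map_add, map_add, hBBB t htW]
      abel
  have hE : ∀ (g : U →ₗ[F] U), (∀ x, A x = x → B x = x → g x = x) → W ⊓ Fx A ⊓ Fx B ≤ W ⊓ Fx g := by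
    rintro g hg x ⟨⟨hxW, hx⟩, hx'⟩
    exact ⟨hxW, mem_Fx.2 (hg x (mem_Fx.1 hx) (mem_Fx.1 hx'))⟩
  -- the sum of the images of `x`
  have hfix : ∀ {g : U →ₗ[F] U} {x : U}, g x = x → x = (3 : F)⁻¹ • (x + g x + g (g x)) := by
    intro g x hx
    rw [hx, hx, third, smul_smul, hi, one_smul]
  refine four_sup inf_le_left inf_le_left inf_le_left inf_le_left ?_ ?_ ?_ ?_
  · ext x
    simp only [Submodule.mem_inf]
    tauto
  · apply le_antisymm
    · rintro x ⟨hx, hxW, hx3⟩
      obtain ⟨y, ⟨hyW, hy⟩, z, ⟨hzW, hz⟩, rfl⟩ := Submodule.mem_sup.1 hx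
      rw [SetLike.mem_coe, mem_Fx] at hy hz hx3
      rw [hfix hx3]
      apply Submodule.smul_mem
      have hBy := hB y hyW
      have hAz := hA z hzW
      have e1 : (A * B) y = B y := by rw [Module.End.mul_apply, hAB _ hyW, hy]
      have e2 : (A * B) (B y) = B (B y) := by rw [Module.End.mul_apply, hAB _ hBy, hAB _ hyW, hy]
      have e3 : (A * B) z = A z := by rw [Module.End.mul_apply, hz]
      have e4 : (A * B) (A z) = A (A z) := by rw [Module.End.mul_apply, ← hAB _ hzW, hz]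
      have e5 : y + z + (A * B) (y + z) + (A * B) ((A * B) (y + z)) =
          (y + B y + B (B y)) + (z + A z + A (A z)) := by
        rw [map_add, e1, e3, map_add, e2, e4]
        abel
      rw [e5]
      exact Submodule.add_mem _ (hy' y hyW hy) (hz' z hzW hz)
    · refine le_inf ((hE A fun x h _ => h).trans le_sup_left) (hE (A * B) fun x h h' => ?_)
      rw [Module.End.mul_apply, h', h]
  · apply le_antisymm
    · rintro x ⟨hx, hxW, hx3⟩
      obtain ⟨w, hw, t, ⟨htW, ht⟩, rfl⟩ := Submodule.mem_sup.1 hx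
      obtain ⟨y, ⟨hyW, hy⟩, z, ⟨hzW, hz⟩, rfl⟩ := Submodule.mem_sup.1 hw
      rw [SetLike.mem_coe, mem_Fx] at hy hz hx3 ht
      rw [Module.End.mul_apply] at ht
      rw [hfix hx3]
      apply Submodule.smul_mem
      have hBy := hB y hyW
      have hAz := hA z hzW
      have hBt := hB t htW
      have hBBy := hB _ hBy
      have hBBt := hB _ hBt
      have e1 : (A * B * B) y = B (B y) := by
        rw [Module.End.mul_apply, Module.End.mul_apply, hAB _ hBy, hAB _ hyW, hy]
      have e2 : (A * B * B) (B (B y)) = B y := by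
        rw [Module.End.mul_apply, Module.End.mul_apply, hBBB _ hyW, hAB _ hyW, hy]
      have e3 : (A * B * B) z = A z := by rw [Module.End.mul_apply, Module.End.mul_apply, hz, hz]
      have e4 : (A * B * B) (A z) = A (A z) := by
        rw [Module.End.mul_apply, Module.End.mul_apply, ← hAB _ hzW, hz, ← hAB _ hzW, hz]
      have e6 : (A * B * B) t = B t := by
        rw [Module.End.mul_apply, Module.End.mul_apply, hAB _ hBt, ht]
      have e7 : (A * B * B) (B t) = B (B t) := by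
        rw [Module.End.mul_apply, Module.End.mul_apply, hAB _ hBBt, hAB _ hBt, ht]
      have e5 : y + z + t + (A * B * B) (y + z + t) + (A * B * B) ((A * B * B) (y + z + t)) =
          (y + B y + B (B y)) + (z + A z + A (A z)) + (t + B t + B (B t)) := by
        rw [map_add, map_add, e1, e3, e6, map_add, map_add, e2, e4, e7]
        abel
      rw [e5]
      exact Submodule.add_mem _ (Submodule.add_mem _ (hy' y hyW hy) (hz' z hzW hz)) (ht' t htW ht)
    · refine le_inf (((hE A fun x h _ => h).trans le_sup_left).trans le_sup_left) (hE (A * B * B) fun x h h' => ?_)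
      rw [Module.End.mul_apply, Module.End.mul_apply, h', h', h]
  · intro x hx
    -- `3 x = S(A) x + S(B) x + S(A B) x + S(A B²) x - (1 + A + A²)(1 + B + B²) x`
    have hBx := hB x hx
    have hAx := hA x hx
    have hBBx := hB _ hBx
    have hAAx := hA _ hAx
    have hm : ∀ {g : U →ₗ[F] U} {y : U}, y ∈ W → g y ∈ W → g (g y) ∈ W → g (g (g y)) = y →
        y + g y + g (g y) ∈ W ⊓ Fx g := by
      intro g y h1 h2 h3 h4
      refine ⟨W.add_mem (W.add_mem h1 h2) h3, ?_⟩
      rw [SetLike.mem_coe, mem_Fx, map_add, map_add, h4]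
      abel
    have c1 : (A * B) x = A (B x) := rfl
    have c2 : (A * B) (A (B x)) = A (A (B (B x))) := by
      rw [Module.End.mul_apply, ← hAB _ hBx]
    have c3 : (A * B) (A (A (B (B x)))) = x := by
      rw [Module.End.mul_apply, ← hAB _ (hA _ hBBx), ← hAB _ hBBx, hBBB x hx, hAAA x hx]
    have c4 : (A * B * B) x = A (B (B x)) := rfl
    have c5 : (A * B * B) (A (B (B x))) = A (A (B x)) := by
      rw [Module.End.mul_apply, Module.End.mul_apply, ← hAB _ hBBx, hBBB x hx, ← hAB _ hx]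
    have c6 : (A * B * B) (A (A (B x))) = x := by
      rw [Module.End.mul_apply, Module.End.mul_apply, ← hAB _ (hA _ hBx), ← hAB _ hBx, ← hAB _ (hA _ hBBx),
        ← hAB _ hBBx, hBBB x hx, hAAA x hx]
    have m1 : x + A x + A (A x) ∈ W ⊓ Fx A := hm hx hAx hAAx (hAAA x hx)
    have m2 : x + B x + B (B x) ∈ W ⊓ Fx B := hm hx hBx hBBx (hBBB x hx)
    have m3 : x + (A * B) x + (A * B) ((A * B) x) ∈ W ⊓ Fx (A * B) :=
      hm hx (hA _ hBx) (by rw [c1, c2]; exact hA _ (hA _ hBBx)) (by rw [c1, c2, c3])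
    have m4 : x + (A * B * B) x + (A * B * B) ((A * B * B) x) ∈ W ⊓ Fx (A * B * B) :=
      hm hx (hA _ hBBx) (by rw [c4, c5]; exact hA _ (hA _ hBx)) (by rw [c4, c5, c6])
    set y := x + B x + B (B x) with hy
    have hyW : y ∈ W := W.add_mem (W.add_mem hx hBx) hBBx
    have m5 : y + A y + A (A y) ∈ W ⊓ Fx A := hm hyW (hA _ hyW) (hA _ (hA _ hyW)) (hAAA y hyW)
    have e0 : (x + A x + A (A x)) + y + (x + (A * B) x + (A * B) ((A * B) x)) +
        (x + (A * B * B) x + (A * B * B) ((A * B * B) x)) - (y + A y + A (A y)) = x + x + x := by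
      rw [c1, c2, c4, c5, hy]
      simp only [map_add]
      abel
    have e1 : x = (3 : F)⁻¹ • ((x + A x + A (A x)) + y + (x + (A * B) x + (A * B) ((A * B) x)) +
        (x + (A * B * B) x + (A * B * B) ((A * B * B) x)) - (y + A y + A (A y))) := by
      rw [e0, third, smul_smul, hi, one_smul]
    rw [e1]
    apply Submodule.smul_mem
    apply Submodule.sub_mem
    · exact Submodule.add_mem _ (Submodule.add_mem _ (Submodule.add_mem _
        (Submodule.mem_sup_left (Submodule.mem_sup_left (Submodule.mem_sup_left m1)))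
        (Submodule.mem_sup_left (Submodule.mem_sup_left (Submodule.mem_sup_right m2))))
        (Submodule.mem_sup_left (Submodule.mem_sup_right m3))) (Submodule.mem_sup_right m4)
    · exact Submodule.mem_sup_left (Submodule.mem_sup_left (Submodule.mem_sup_left m5))

end rel

end Cfsg.Agent.H65.FixDim
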