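import Mathlib

/-!
# Rank one Steinberg relations over a finite field (helper65)

`Rk x y`: `x, y : F → Γ` additive, `w a * x b * (w a)⁻¹ = y (-(a⁻¹ ^ 2 * b))` for `a ≠ 0`, where
`w a = x a * y (-a⁻¹) * x a`. If `F` is finite, then `h a * h b = h (a * b)` for `h a = w a * w (-1)` (`Rk.h_mul`).
-/

set_option autoImplicit false

namespace Cfsg.Agent.H65.RankOne

variable {F : Type*} [Field F] {Γ : Type*} [Group Γ]

/-- `w(a) = x(a) y(-a⁻¹) x(a)` -/
def w (x y : F → Γ) (a : F) : Γ := x a * y (-a⁻¹) * x a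

/-- `h(a) = w(a) w(-1)` -/
def h (x y : F → Γ) (a : F) : Γ := w x y a * w x y (-1)

/-- The rank one relations. -/
structure Rk (x y : F → Γ) : Prop where
  addx : ∀ a b, x (a + b) = x a * x b
  addy : ∀ a b, y (a + b) = y a * y b
  hw : ∀ a, a ≠ 0 → ∀ b, w x y a * x b * (w x y a)⁻¹ = y (-(a⁻¹ ^ 2 * b))

namespace Rk

variable {x y : F → Γ} (R : Rk x y)

include R

theorem x0 : x 0 = 1 := by
  have h1 := R.addx 0 0
  rw [add_zero] at h1
  exact left_eq_mul.1 h1

theorem y0 : y 0 = 1 := by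
  have h1 := R.addy 0 0
  rw [add_zero] at h1
  exact left_eq_mul.1 h1

theorem xneg (a : F) : x (-a) = (x a)⁻¹ := by
  rw [eq_inv_iff_mul_eq_one, ← R.addx, neg_add_cancel, R.x0]

theorem yneg (a : F) : y (-a) = (y a)⁻¹ := by
  rw [eq_inv_iff_mul_eq_one, ← R.addy, neg_add_cancel, R.y0]

theorem w_inv (a : F) : (w x y a)⁻¹ = w x y (-a) := by
  unfold w
  rw [mul_inv_rev, mul_inv_rev, ← R.xneg, ← R.yneg, neg_neg, inv_neg, neg_neg, mul_assoc]

theorem hw' {a : F} (ha : a ≠ 0) (b : F) : w x y a * y b * (w x y a)⁻¹ = x (-(a ^ 2 * b)) := by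
  have h1 := R.hw (-a) (neg_ne_zero.2 ha) (-(a ^ 2 * b))
  rw [← R.w_inv, inv_inv] at h1
  have h2 : -((-a)⁻¹ ^ 2 * -(a ^ 2 * b)) = b := by
    field_simp
  rw [h2] at h1
  rw [← h1]
  group

/-- `w(a) = y(-a⁻¹) x(a) y(-a⁻¹)` -/
theorem w_eq {a : F} (ha : a ≠ 0) : w x y a = y (-a⁻¹) * x a * y (-a⁻¹) := by
  have h1 : w x y a = w x y a * w x y a * (w x y a)⁻¹ := by group
  rw [h1]
  have h2 : w x y a * w x y a * (w x y a)⁻¹ = (w x y a * x a * (w x y a)⁻¹) * (w x y a * y (-a⁻¹) * (w x y a)⁻¹) *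
      (w x y a * x a * (w x y a)⁻¹) := by
    have : w x y a * w x y a * (w x y a)⁻¹ = w x y a * (x a * y (-a⁻¹) * x a) * (w x y a)⁻¹ := rfl
    rw [this]; group
  have e1 : -(a⁻¹ ^ 2 * a) = -a⁻¹ := by field_simp
  have e2 : -(a ^ 2 * -a⁻¹) = a := by field_simp
  rw [h2, R.hw a ha, R.hw' ha, e1, e2]

theorem w_conj_w {a b : F} (ha : a ≠ 0) (hb : b ≠ 0) :
    w x y a * w x y b * (w x y a)⁻¹ = w x y (a ^ 2 * b⁻¹) := by
  have hc : a ^ 2 * b⁻¹ ≠ 0 := mul_ne_zero (pow_ne_zero _ ha) (inv_ne_zero hb)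
  rw [R.w_eq hc]
  have h2 : w x y a * w x y b * (w x y a)⁻¹ = (w x y a * x b * (w x y a)⁻¹) * (w x y a * y (-b⁻¹) * (w x y a)⁻¹) *
      (w x y a * x b * (w x y a)⁻¹) := by
    have : w x y a * w x y b * (w x y a)⁻¹ = w x y a * (x b * y (-b⁻¹) * x b) * (w x y a)⁻¹ := rfl
    rw [this]; group
  have e1 : -(a ^ 2 * b⁻¹)⁻¹ = -(a⁻¹ ^ 2 * b) := by field_simp
  have e2 : -(a ^ 2 * -b⁻¹) = a ^ 2 * b⁻¹ := by ring
  rw [h2, R.hw a ha, R.hw' ha, e1, e2]

theorem h_one : h x y 1 = 1 := by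
  unfold h
  rw [← R.w_inv, mul_inv_cancel]

theorem h_conj_x {a : F} (ha : a ≠ 0) (b : F) : h x y a * x b * (h x y a)⁻¹ = x (a ^ 2 * b) := by
  have e : h x y a * x b * (h x y a)⁻¹ = w x y a * (w x y (-1) * x b * (w x y (-1))⁻¹) * (w x y a)⁻¹ := by
    unfold h; group
  rw [e, R.hw _ (neg_ne_zero.2 one_ne_zero), R.hw' ha]
  congr 1
  field_simp

theorem h_conj_y {a : F} (ha : a ≠ 0) (b : F) : h x y a * y b * (h x y a)⁻¹ = y (a⁻¹ ^ 2 * b) := by
  have e : h x y a * y b * (h x y a)⁻¹ = w x y a * (w x y (-1) * y b * (w x y (-1))⁻¹) * (w x y a)⁻¹ := by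
    unfold h; group
  rw [e, R.hw' (neg_ne_zero.2 one_ne_zero), R.hw a ha]
  congr 1
  ring

theorem h_conj_w {a : F} (ha : a ≠ 0) (b : F) : h x y a * w x y b * (h x y a)⁻¹ = w x y (a ^ 2 * b) := by
  have h2 : h x y a * w x y b * (h x y a)⁻¹ = (h x y a * x b * (h x y a)⁻¹) * (h x y a * y (-b⁻¹) * (h x y a)⁻¹) *
      (h x y a * x b * (h x y a)⁻¹) := by
    have : h x y a * w x y b * (h x y a)⁻¹ = h x y a * (x b * y (-b⁻¹) * x b) * (h x y a)⁻¹ := rfl
    rw [this]; group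
  rw [h2, R.h_conj_x ha, R.h_conj_y ha]
  unfold w
  congr 3
  rw [mul_inv, inv_pow]
  ring

theorem h_conj_h {a : F} (ha : a ≠ 0) (b : F) :
    h x y a * h x y b * (h x y a)⁻¹ = h x y (a ^ 2 * b) * (h x y (a ^ 2))⁻¹ := by
  have e : h x y a * h x y b * (h x y a)⁻¹ =
      (h x y a * w x y b * (h x y a)⁻¹) * (h x y a * w x y (-1) * (h x y a)⁻¹) := by
    unfold h; group
  rw [e, R.h_conj_w ha, R.h_conj_w ha]
  unfold h
  rw [mul_neg_one, ← R.w_inv (a ^ 2)]
  group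

/-- The symbol. -/
theorem comm_f {a b : F} (ha : a ≠ 0) (hb : b ≠ 0) :
    (∀ c, Commute (h x y a * h x y b * (h x y (a * b))⁻¹) (x c)) ∧
      ∀ c, Commute (h x y a * h x y b * (h x y (a * b))⁻¹) (y c) := by
  have hab : a * b ≠ 0 := mul_ne_zero ha hb
  constructor
  · intro c
    have h1 := R.h_conj_x hab ((a * b)⁻¹ ^ 2 * c)
    have e1 : (a * b) ^ 2 * ((a * b)⁻¹ ^ 2 * c) = c := by field_simp
    rw [e1] at h1
    have h2 : (h x y (a * b))⁻¹ * x c * h x y (a * b) = x ((a * b)⁻¹ ^ 2 * c) := by rw [← h1]; group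
    have h3 : (h x y a * h x y b * (h x y (a * b))⁻¹) * x c * (h x y a * h x y b * (h x y (a * b))⁻¹)⁻¹ = x c := by
      have e : (h x y a * h x y b * (h x y (a * b))⁻¹) * x c * (h x y a * h x y b * (h x y (a * b))⁻¹)⁻¹ =
          h x y a * (h x y b * ((h x y (a * b))⁻¹ * x c * h x y (a * b)) * (h x y b)⁻¹) * (h x y a)⁻¹ := by group
      rw [e, h2, R.h_conj_x hb, R.h_conj_x ha]
      congr 1; field_simp
    exact mul_inv_eq_iff_eq_mul.1 h3
  · intro c
    have h1 := R.h_conj_y hab ((a * b) ^ 2 * c)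
    have e1 : (a * b)⁻¹ ^ 2 * ((a * b) ^ 2 * c) = c := by field_simp
    rw [e1] at h1
    have h2 : (h x y (a * b))⁻¹ * y c * h x y (a * b) = y ((a * b) ^ 2 * c) := by rw [← h1]; group
    have h3 : (h x y a * h x y b * (h x y (a * b))⁻¹) * y c * (h x y a * h x y b * (h x y (a * b))⁻¹)⁻¹ = y c := by
      have e : (h x y a * h x y b * (h x y (a * b))⁻¹) * y c * (h x y a * h x y b * (h x y (a * b))⁻¹)⁻¹ =
          h x y a * (h x y b * ((h x y (a * b))⁻¹ * y c * h x y (a * b)) * (h x y b)⁻¹) * (h x y a)⁻¹ := by group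
      rw [e, h2, R.h_conj_y hb, R.h_conj_y ha]
      congr 1; field_simp
    exact mul_inv_eq_iff_eq_mul.1 h3

omit R in
theorem commute_h {z : Γ} (hx : ∀ c, Commute z (x c)) (hy : ∀ c, Commute z (y c)) (a : F) :
    Commute z (h x y a) := by
  unfold h w
  exact ((((hx _).mul_right (hy _)).mul_right (hx _))).mul_right (((hx _).mul_right (hy _)).mul_right (hx _))

theorem f_comm {a b : F} (ha : a ≠ 0) (hb : b ≠ 0) (c : F) :
    Commute (h x y a * h x y b * (h x y (a * b))⁻¹) (h x y c) :=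
  commute_h (R.comm_f ha hb).1 (R.comm_f ha hb).2 c

/-- `{u, 1 - u} = 1` -/
theorem h_one_sub {u : F} (hu : u ≠ 0) (hu1 : 1 - u ≠ 0) :
    h x y u * h x y (1 - u) = h x y (u * (1 - u)) := by
  have hv : (1 : F) - u ≠ 0 := hu1
  have key : w x y u * w x y (-1) * w x y (1 - u) = w x y (u * (1 - u)) := by
    have e1 : w x y (-1) = y 1 * x (-1) * y 1 := by
      rw [R.w_eq (neg_ne_zero.2 one_ne_zero)]
      have : -(-1 : F)⁻¹ = 1 := by rw [inv_neg, neg_neg, inv_one]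
      rw [this]
    have e2 : w x y u * y 1 = x (-(u ^ 2)) * w x y u := by
      have := R.hw' hu 1
      rw [mul_one] at this
      rw [← this]; group
    have e3 : y 1 * w x y (1 - u) = w x y (1 - u) * x (-((1 - u) ^ 2)) := by
      have := R.hw' (neg_ne_zero.2 hv) 1
      rw [← R.w_inv, inv_inv, mul_one, neg_sq] at this
      rw [← this]; group
    have e4 : w x y u * w x y (-1) * w x y (1 - u) =
        (w x y u * y 1) * x (-1) * (y 1 * w x y (1 - u)) := by rw [e1]; group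
    rw [e4, e2, e3]
    have e5 : x (-(u ^ 2)) * w x y u * x (-1) * (w x y (1 - u) * x (-((1 - u) ^ 2))) =
        (x (-(u ^ 2)) * x u) * y (-u⁻¹) * (x u * x (-1) * x (1 - u)) * y (-(1 - u)⁻¹) *
          (x (1 - u) * x (-((1 - u) ^ 2))) := by
      unfold w; group
    rw [e5, ← R.addx, ← R.addx, ← R.addx, ← R.addx]
    have e6 : u + -1 + (1 - u) = 0 := by ring
    rw [e6, R.x0, mul_one, mul_assoc (x (-(u ^ 2) + u)), ← R.addy]
    unfold w
    have e7 : -(u ^ 2) + u = u * (1 - u) := by ring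
    have e8 : 1 - u + -(1 - u) ^ 2 = u * (1 - u) := by ring
    have e9 : -u⁻¹ + -(1 - u)⁻¹ = -(u * (1 - u))⁻¹ := by
      field_simp
      ring
    rw [e7, e8, e9]
  have e : h x y u * h x y (1 - u) = w x y u * w x y (-1) * w x y (1 - u) * w x y (-1) := by
    unfold h; group
  rw [e, key]
  rfl

section Fin

variable [Finite F]

/-- All `h(a)` commute. -/
theorem h_comm {a b : F} (ha : a ≠ 0) (hb : b ≠ 0) : Commute (h x y a) (h x y b) := by
  classical
  obtain ⟨g, hg⟩ := IsCyclic.exists_generator (α := Fˣ)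
  -- the `a` with `h a` commuting with a given `h c`
  have key : ∀ c : F, Commute (h x y c) (h x y (g : F)) → ∀ a : Fˣ, Commute (h x y c) (h x y (a : F)) := by
    intro c hc a
    obtain ⟨n, rfl⟩ := mem_powers_iff_mem_zpowers.2 (hg a)
    induction n with
    | zero => simp only [pow_zero, Units.val_one, R.h_one]; exact Commute.one_right _
    | succ n ih =>
      have ih : Commute (h x y c) (h x y ((g ^ n : Fˣ) : F)) := ih
      show Commute (h x y c) (h x y ((g ^ (n + 1) : Fˣ) : F))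
      have h1 := (R.f_comm (Units.ne_zero (g ^ n)) g.ne_zero c).symm
      have e : h x y (((g ^ (n + 1) : Fˣ)) : F) =
          (h x y ((g ^ n : Fˣ) : F) * h x y (g : F) * (h x y (((g ^ n : Fˣ) : F) * g))⁻¹)⁻¹ *
            (h x y ((g ^ n : Fˣ) : F) * h x y (g : F)) := by
        rw [pow_succ, Units.val_mul]; group
      rw [e]
      exact h1.inv_right.mul_right (ih.mul_right hc)
  have h1 : ∀ a : Fˣ, Commute (h x y (g : F)) (h x y (a : F)) := key g (Commute.refl _)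
  have h2 := key a (h1 (Units.mk0 a ha)).symm (Units.mk0 b hb)
  exact h2

theorem h_sq_mul {a b : F} (ha : a ≠ 0) (hb : b ≠ 0) : h x y (a ^ 2 * b) = h x y (a ^ 2) * h x y b := by
  have h1 := R.h_conj_h ha b
  rw [(R.h_comm ha hb).eq, mul_inv_cancel_right, eq_mul_inv_iff_mul_eq] at h1
  rw [← h1, (R.h_comm hb (pow_ne_zero 2 ha)).eq]

/-- **Multiplicativity of `h`.** -/
theorem h_mul {a b : F} (ha : a ≠ 0) (hb : b ≠ 0) : h x y a * h x y b = h x y (a * b) := by
  classical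
  have : Fintype F := Fintype.ofFinite F
  by_cases hsa : IsSquare a
  · obtain ⟨c, rfl⟩ := hsa
    have hc : c ≠ 0 := fun e => ha (by rw [e, mul_zero])
    rw [← sq, ← R.h_sq_mul hc hb]
  by_cases hsb : IsSquare b
  · obtain ⟨c, rfl⟩ := hsb
    have hc : c ≠ 0 := fun e => hb (by rw [e, mul_zero])
    rw [← sq, (R.h_comm ha (pow_ne_zero 2 hc)).eq, ← R.h_sq_mul hc ha, mul_comm a]
  -- odd characteristic
  have hF : ringChar F ≠ 2 := by
    intro h2
    exact hsa (FiniteField.isSquare_of_char_two h2 a)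
  obtain ⟨s, t, hst⟩ : ∃ s t : F, s ^ 2 + t ^ 2 = a⁻¹ := by
    have hodd : Fintype.card F % 2 = 1 := FiniteField.odd_card_of_char_ne_two hF
    obtain ⟨s, t, h1⟩ := FiniteField.exists_root_sum_quadratic (R := F) (f := Polynomial.X ^ 2)
      (g := Polynomial.X ^ 2 - Polynomial.C a⁻¹) (Polynomial.degree_X_pow 2)
      (Polynomial.degree_X_pow_sub_C (by norm_num) _) hodd
    refine ⟨s, t, ?_⟩
    simp only [Polynomial.eval_pow, Polynomial.eval_X, Polynomial.eval_sub, Polynomial.eval_C] at h1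
    linear_combination h1
  have hs : s ≠ 0 := by
    rintro rfl
    apply hsa
    rw [zero_pow two_ne_zero, zero_add] at hst
    exact ⟨t⁻¹, by rw [← inv_inv a, ← hst]; field_simp⟩
  have ht : t ≠ 0 := by
    rintro rfl
    apply hsa
    rw [zero_pow two_ne_zero, add_zero] at hst
    exact ⟨s⁻¹, by rw [← inv_inv a, ← hst]; field_simp⟩
  -- `u = a s²`, `1 - u = a t²`
  have hu : 1 - s ^ 2 * a = t ^ 2 * a := by
    have : (s ^ 2 + t ^ 2) * a = 1 := by rw [hst, inv_mul_cancel₀ ha]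
    linear_combination -this
  -- `b = a c²`
  obtain ⟨c, hc, rfl⟩ : ∃ c : F, c ≠ 0 ∧ b = c ^ 2 * a := by
    have h1 : IsSquare (a * b) := by
      have := FiniteField.isSquare_iff hF (a := a * b) (mul_ne_zero ha hb)
      rw [this, mul_pow]
      have h2 : a ^ (Fintype.card F / 2) = -1 :=
        (FiniteField.pow_dichotomy hF ha).resolve_left fun e => hsa ((FiniteField.isSquare_iff hF ha).2 e)
      have h3 : b ^ (Fintype.card F / 2) = -1 :=
        (FiniteField.pow_dichotomy hF hb).resolve_left fun e => hsb ((FiniteField.isSquare_iff hF hb).2 e)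
      rw [h2, h3]; norm_num
    obtain ⟨d, hd⟩ := h1
    refine ⟨d * a⁻¹, ?_, ?_⟩
    · intro e
      have hd0 : d = 0 := (mul_eq_zero.1 e).resolve_right (inv_ne_zero ha)
      rw [hd0, mul_zero] at hd
      exact mul_ne_zero ha hb hd
    · have : a * b = d * d := hd
      field_simp
      linear_combination this
  have k1 : h x y (s ^ 2 * a) * h x y (t ^ 2 * a) = h x y ((s ^ 2 * a) * (t ^ 2 * a)) := by
    have := R.h_one_sub (u := s ^ 2 * a) (mul_ne_zero (pow_ne_zero 2 hs) ha)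
      (by rw [hu]; exact mul_ne_zero (pow_ne_zero 2 ht) ha)
    rwa [hu] at this
  have haa : a * a ≠ 0 := mul_ne_zero ha ha
  -- `h a * h a = h (a * a)`
  have k2 : h x y a * h x y a = h x y (a * a) := by
    rw [R.h_sq_mul hs ha, R.h_sq_mul ht ha] at k1
    have e : (s ^ 2 * a) * (t ^ 2 * a) = s ^ 2 * (t ^ 2 * (a * a)) := by ring
    rw [e, R.h_sq_mul hs (mul_ne_zero (pow_ne_zero 2 ht) haa), R.h_sq_mul ht haa] at k1
    have e2 : h x y (s ^ 2) * h x y a * (h x y (t ^ 2) * h x y a) =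
        h x y (s ^ 2) * (h x y (t ^ 2) * (h x y a * h x y a)) := by
      rw [mul_assoc, ← mul_assoc (h x y a) (h x y (t ^ 2)), (R.h_comm ha (pow_ne_zero 2 ht)).eq]
      group
    rw [e2] at k1
    exact mul_left_cancel (mul_left_cancel k1)
  have e : a * (c ^ 2 * a) = c ^ 2 * (a * a) := by ring
  rw [e, R.h_sq_mul hc ha, R.h_sq_mul hc haa, ← k2, ← mul_assoc, (R.h_comm ha (pow_ne_zero 2 hc)).eq, mul_assoc]

end Fin

end Rk

end Cfsg.Agent.H65.RankOne
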