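import Mathlib
import Cfsg.Agent.H958.SixC.Ty
import Cfsg.Agent.H905.SixC.M10
import Cfsg.Agent.H801.SixT

/-!
# S5927, S5928: `sixc_two`, Q3: both types of 3-dimensional stable subspaces occur in both modules (helper65)
-/

set_option autoImplicit false

namespace Cfsg.Agent.H65.SixBoth

open Cfsg Cfsg.Lie Module Equiv
open Cfsg.Agent.ChevalleyStructure.E6Min.Tables Cfsg.Agent.ChevalleyStructure.E6Min.Basic
  Cfsg.Agent.ChevalleyStructure.E6Min.Adjoint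
open Cfsg.Agent.H952.F4 (ev es matRep sh cr tf MaxAlt)
open Cfsg.Agent.H958.SixC
open Cfsg.Agent.H163.E6 Cfsg.Agent.H163.E6.SixC

universe u

variable {F : Type u} [Field F] {φ : ↥(alternatingGroup (Fin 6)) →* ↥(chevE6.group F)}

/-- transport by an element normalizing the preimage -/
theorem ty_map {ρ : Representation F ↥(Zgrp F) (I27 → F)} {z g g' : ↥(φ.range.comap (ad F))} {u : ↥(Zgrp F)}
    (hu : ∀ g, ad F g ∈ φ.range → ad F (u⁻¹ * g * u) ∈ φ.range)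
    (hk : ∀ w, KF ρ (z : ↥(Zgrp F)) (g : ↥(Zgrp F)) w → KF ρ (z : ↥(Zgrp F)) (g' : ↥(Zgrp F)) (ρ u w))
    {W : Submodule F (I27 → F)} (h : Ty φ ρ z g W) : Ty φ ρ z g' (W.map (ρ u)) := by
  have hinj : Function.Injective (ρ u) := by
    intro x y hxy
    have h1 := congrArg (ρ u⁻¹) hxy
    rwa [inv_ap, inv_ap] at h1
  obtain ⟨w, hw, hw0, hk0⟩ := h.k
  refine ⟨?_, ?_, ρ u w, ⟨w, hw, rfl⟩, fun h0 => hw0 (hinj (h0.trans (map_zero _).symm)), hk w hk0⟩
  · rintro x hx _ ⟨v, hv, rfl⟩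
    refine ⟨ρ (u⁻¹ * x * u) v, h.st _ (hu x hx) v hv, ?_⟩
    rw [← mul_ap, ← mul_ap]
    congr 2
    group
  · exact (Submodule.equivMapOfInjective (ρ u) hinj W).finrank_eq.symm.trans h.d

/-- the image under the semilinear map -/
def jmap {q : ℕ} {J : (I27 → F) → (I27 → F)} (hadd : ∀ x y, J (x + y) = J x + J y)
    (hsmul : ∀ (c : F) x, J (c • x) = c ^ q • J x) (W : Submodule F (I27 → F)) :
    Submodule F (I27 → F) where
  carrier := {y | J y ∈ W}
  zero_mem' := by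
    have h0 : J 0 = 0 := by
      have := hadd 0 0
      rw [add_zero] at this
      exact left_eq_add.1 this
    show J 0 ∈ W
    rw [h0]
    exact W.zero_mem
  add_mem' := fun {a b} ha hb => by
    show J (a + b) ∈ W
    rw [hadd]
    exact W.add_mem ha hb
  smul_mem' := fun c a ha => by
    show J (c • a) ∈ W
    rw [hsmul]
    exact W.smul_mem _ ha

theorem finrank_jmap [Finite F] {q : ℕ} {J : (I27 → F) → (I27 → F)} (hadd : ∀ x y, J (x + y) = J x + J y)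
    (hsmul : ∀ (c : F) x, J (c • x) = c ^ q • J x) (hJ : ∀ x, J (J x) = x) (W : Submodule F (I27 → F)) :
    finrank F ↥(jmap hadd hsmul W) = finrank F ↥W := by
  have e : ↥(jmap hadd hsmul W) ≃ ↥W :=
    { toFun := fun y => ⟨J y, y.2⟩
      invFun := fun w => ⟨J w, by show J (J _) ∈ W; rw [hJ]; exact w.2⟩
      left_inv := fun y => Subtype.ext (hJ y)
      right_inv := fun w => Subtype.ext (hJ w) }
  have h1 := Nat.card_congr e
  rw [Module.natCard_eq_pow_finrank (K := F) (V := ↥(jmap hadd hsmul W)),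
    Module.natCard_eq_pow_finrank (K := F) (V := ↥W)] at h1
  exact Nat.pow_right_injective Finite.one_lt_card h1

/-- transport by the semilinear map -/
theorem ty_semi [Finite F] {q : ℕ} (hJ : Semi q φ) (hB : Bgrp φ = φ.range.comap (ad F))
    {ρ ρ' : Representation F ↥(Zgrp F) (I27 → F)} (hp : Pr ρ ρ') {z g : ↥(φ.range.comap (ad F))}
    {W : Submodule F (I27 → F)} (h : Ty φ ρ z g W) : ∃ W', Ty φ ρ' z g W' := by
  obtain ⟨J, hadd, hsmul, hJJ, -, -, -, -, hV⟩ := hJ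
  have h0 : J 0 = 0 := by
    have := hadd 0 0
    rw [add_zero] at this
    exact left_eq_add.1 this
  have hne : ∀ x, x ≠ 0 → J x ≠ 0 := fun x hx h => hx (by rw [← hJJ x, h, h0])
  have hact : ∀ g ∈ φ.range.comap (ad F), ∀ x, ρ' g (J x) = J (ρ g x) := by
    intro g hg x
    rw [← hB] at hg
    rcases hp with ⟨rfl, rfl⟩ | ⟨rfl, rfl⟩
    · exact (hV g hg x).2
    · exact (hV g hg x).1
  have hact' : ∀ g ∈ φ.range.comap (ad F), ∀ x, J (ρ' g x) = ρ g (J x) := by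
    intro g hg x
    have h1 := hact g hg (J x)
    rw [hJJ] at h1
    rw [h1, hJJ]
  obtain ⟨w, hw, hw0, hk0, hk1⟩ := h.k
  refine ⟨jmap hadd hsmul W, ?_, ?_, J w, ?_, hne w hw0, ?_, ?_⟩
  · intro x hx v hv
    show J (ρ' x v) ∈ W
    rw [hact' x hx]
    exact h.st x hx _ hv
  · rw [finrank_jmap hadd hsmul hJJ, h.d]
  · show J (J w) ∈ W
    rwa [hJJ]
  · show ρ' (z : ↥(Zgrp F)) (J w) = J w
    rw [hact _ z.2]
    exact congrArg J hk0
  · show ρ' ((xx z g : ↥(φ.range.comap (ad F))) : ↥(Zgrp F)) (J w) = J w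
    rw [hact _ (xx z g).2]
    exact congrArg J hk1

/-- both types in both modules, from one and the two exchanges -/
theorem all_of {T : Bool → Bool → Prop} (h1 : ∀ a b, T a b → T (!a) (!b)) (h2 : (∀ a b, T a b → T a (!b)) ∨ ∀ a b, T a b → T (!a) b)
    (h : ∃ a b, T a b) : ∀ a b, T a b := by
  obtain ⟨a, b, h0⟩ := h
  have e1 := h1 _ _ h0
  rcases h2 with h2 | h2
  · have e2 := h2 _ _ h0
    have e3 := h2 _ _ e1
    intro a' b'
    cases a <;> cases b <;> cases a' <;> cases b' <;> simp_all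
  · have e2 := h2 _ _ h0
    have e3 := h2 _ _ e1
    intro a' b'
    cases a <;> cases b <;> cases a' <;> cases b' <;> simp_all

end Cfsg.Agent.H65.SixBoth

namespace Cfsg.Agent.H163.E6.SixC

open Cfsg Cfsg.Lie Module Equiv
open Cfsg.Agent.ChevalleyStructure.E6Min.Tables Cfsg.Agent.ChevalleyStructure.E6Min.Basic
  Cfsg.Agent.ChevalleyStructure.E6Min.Adjoint
open Cfsg.Agent.H952.F4 (ev es matRep sh cr tf MaxAlt)
open Cfsg.Agent.H958.SixC
open Cfsg.Agent.H65.SixBoth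

universe u

variable {F : Type u} [Field F] [Finite F] [CharP F 2] {H : Subgroup ↥(chevE6.group F)}
  {φ : ↥(alternatingGroup (Fin 6)) →* ↥(chevE6.group F)}

/-- both types of 3-dimensional stable subspaces occur in both modules; the exchange of types by `cr` is a hypothesis -/
theorem both_of (hS : Sit H 6 φ) {ω : Fˣ} (hω : Cover φ ω) {ζ z g₁ g₂ β t a : ↥(φ.range.comap (ad F))}
    (hF : Full ζ z g₁ g₂ β t a) (hζ : ((ζ : ↥(Zgrp F)) : GL I27 F) = scal ω)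
    (hcr₁ : ∀ {ρ ρ' : Representation F ↥(Zgrp F) (I27 → F)}, Pr ρ ρ' → ∀ {W : Submodule F (I27 → F)},
      Ty φ ρ z g₁ W → Ty φ ρ' z g₂ (crs W W))
    (hcr₂ : ∀ {ρ ρ' : Representation F ↥(Zgrp F) (I27 → F)}, Pr ρ ρ' → ∀ {W : Submodule F (I27 → F)},
      Ty φ ρ z g₂ W → Ty φ ρ' z g₁ (crs W W))
    (hs : (∃ h ∈ H, h ∉ φ.range) ∨ ∃ q, Twist q φ ∧ Semi q φ) (hz : ad F z = φ z0) (h1 : ad F g₁ = φ g10)
    (h2 : ad F g₂ = φ g20) :
    (∃ W, Ty φ (V F) z g₁ W) ∧ (∃ W, Ty φ (V F) z g₂ W) ∧ (∃ W, Ty φ (V' F) z g₁ W) ∧ (∃ W, Ty φ (V' F) z g₂ W) ∧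
      7 ≤ ev (V F z) 1 ∧ 7 ≤ ev (V' F z) 1 := by
  have : Fact (Nat.Prime 2) := ⟨Nat.prime_two⟩
  have hB : Bgrp φ = φ.range.comap (ad F) := Cov.perfect (n := 6) (by norm_num) hS.inj hω
  have hz5 : (z : ↥(Zgrp F)) ^ 5 = 1 := by
    have := hF.h1.z5
    exact congrArg Subtype.val this
  have hg1 : (g₁ : ↥(Zgrp F)) * g₁ = 1 := congrArg Subtype.val hF.h1.gg
  have hg2 : (g₂ : ↥(Zgrp F)) * g₂ = 1 := congrArg Subtype.val hF.h2.gg
  have hz1 : (z : ↥(Zgrp F)) ≠ 1 := by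
    intro h0
    rw [h0, map_one] at hz
    have h3 : z0 = 1 := hS.inj (hz.symm.trans (map_one φ).symm)
    exact absurd h3 (by decide +kernel)
  -- the modules and the types
  let M : Bool → Representation F ↥(Zgrp F) (I27 → F) := fun a => if a then V F else V' F
  let g : Bool → ↥(φ.range.comap (ad F)) := fun b => if b then g₁ else g₂
  have hM : ∀ a, Pr (M a) (M !a) := by
    intro a
    cases a
    · exact Or.inr ⟨rfl, rfl⟩
    · exact Or.inl ⟨rfl, rfl⟩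
  have hT1 : ∀ a b, (∃ W, Ty φ (M a) z (g b) W) → ∃ W, Ty φ (M !a) z (g !b) W := by
    rintro a b ⟨W, hW⟩
    cases b
    · exact ⟨_, hcr₂ (hM a) hW⟩
    · exact ⟨_, hcr₁ (hM a) hW⟩
  have hT0 : ∃ a b, ∃ W, Ty φ (M a) z (g b) W := by
    obtain ⟨ρ, hρ, W, hW, hd⟩ := H906.E6.SixC.exists_three (φ := φ) hS.inj hω
    obtain ⟨a, rfl⟩ : ∃ a, ρ = M a := by
      rcases hρ with rfl | rfl
      · exact ⟨true, rfl⟩
      · exact ⟨false, rfl⟩
    rcases ty_cases hω.1 hω.2.1 hF hζ hρ hW hd with h | h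
    · exact ⟨a, true, W, h.1⟩
    · exact ⟨a, false, W, h.1⟩
  have key : ((∀ a b, (∃ W, Ty φ (M a) z (g b) W) → ∃ W, Ty φ (M a) z (g !b) W) ∨
      ∀ a b, (∃ W, Ty φ (M a) z (g b) W) → ∃ W, Ty φ (M !a) z (g b) W) ∧ 7 ≤ ev (V F z) 1 := by
    rcases hs with hh | ⟨q, hTw, hSe⟩
    · obtain ⟨u, -, hu2, hu3, hu4⟩ := m10 hS hω hh hz hz5 h1 hg1 h2 hg2
      refine ⟨Or.inl ?_, ?_⟩
      · rintro a b ⟨W, hW⟩
        cases b
        · exact ⟨_, ty_map hu2 (fun w => (hu4 (M a) w).2) hW⟩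
        · exact ⟨_, ty_map hu2 (fun w => (hu4 (M a) w).1) hW⟩
      · have := (H163.E6.Tor.tab 2 (F := F)).five_rat (by norm_num) z hz1 hz5 ⟨u, hu3⟩
        omega
    · refine ⟨Or.inr ?_, ?_⟩
      · rintro a b ⟨W, hW⟩
        exact ty_semi hSe hB (hM a) hW
      · have hq := hTw.cov ω hω
        have htz : (t : ↥(Zgrp F)) * z * (t : ↥(Zgrp F))⁻¹ = (z : ↥(Zgrp F))⁻¹ := congrArg Subtype.val hF.tz
        have htt : (t : ↥(Zgrp F)) * t = 1 := congrArg Subtype.val hF.tt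
        have h5 := ev_ne_five hSe hω.1 hω.2.1 hq (by rw [hB]; exact z.2) hz5 htt htz
        have h6 := (H163.E6.Tor.tab 2 (F := F)).five (by norm_num) z hz1 hz5 ⟨t, htz⟩
        omega
  obtain ⟨h3, h7⟩ := key
  have h4 := all_of (T := fun a b => ∃ W, Ty φ (M a) z (g b) W) hT1 h3 hT0
  refine ⟨h4 true true, h4 true false, h4 false true, h4 false false, h7, ?_⟩
  rw [Act.ev_dual _ one_ne_zero, inv_one]
  exact h7

end Cfsg.Agent.H163.E6.SixC
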